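import Cfsg.Agent.Steinberg.Semisimple

/-!
# The only irreducible character of defect zero is the Steinberg character

For a split `(B,N)`-pair whose group is generated by its `p`-elements.
-/

set_option autoImplicit false
set_option linter.unusedSectionVars false

namespace Cfsg.Lib.Steinberg

open Cfsg.Lib.BN Cfsg.Lib.Chars
open scoped ComplexConjugate

universe u

variable {G : Type u} [Group G] [Finite G] {p : ℕ}

/-- A generalized character interpolating the inverse of one with finitely many values. -/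
theorem exists_interp {H : Type u} [Group H] [Finite H] {η : H → ℂ}
    (hη : Cfsg.IsGeneralizedCharacter H η) (V : Finset ℤ) :
    ∃ θ : H → ℂ, Cfsg.IsGeneralizedCharacter H θ ∧
      ∀ y, ∀ v ∈ V, η y = (v : ℂ) → (v : ℂ) * θ y = ((∏ w ∈ V, w : ℤ) : ℂ) := by
  classical
  induction V using Finset.induction_on with
  | empty => exact ⟨0, isGeneralized_zero, fun y v hv => absurd hv (Finset.notMem_empty v)⟩
  | insert w V hw ih =>
    obtain ⟨θ, hθ, h⟩ := ih
    have hconst : ∀ n : ℤ, Cfsg.IsGeneralizedCharacter H (n • fun _ => (1 : ℂ)) := fun n =>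
      IsGeneralizedCharacter.zsmul (IsCharacter.isGeneralized isCharacter_one) n
    refine ⟨((∏ z ∈ V, z) • fun _ => (1 : ℂ)) + ((w • fun _ => (1 : ℂ)) - η) * θ,
      IsGeneralizedCharacter.add (hconst _) (IsGeneralizedCharacter.mul
        (IsGeneralizedCharacter.sub (hconst w) hη) hθ), fun y v hv hy => ?_⟩
    rw [Finset.prod_insert hw]
    simp only [Pi.add_apply, Pi.mul_apply, Pi.sub_apply, Pi.smul_apply]
    simp only [zsmul_eq_mul, mul_one]
    rcases Finset.mem_insert.1 hv with rfl | hv'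
    · rw [hy]; push_cast; ring
    · have h1 := h y v hv' hy
      rw [hy]; push_cast at h1 ⊢
      linear_combination ((w : ℂ) - v) * h1

/-- A function on a `p'`-group whose product with a generalized character of `p`-power values is a
character, and whose values are integral, is generalized. -/
theorem isGeneralized_of_div {H : Type u} [Group H] [Finite H] (hp : p.Prime)
    (hH : ¬ p ∣ Nat.card H) {f η χ : H → ℂ} (hf : Cfsg.IsClassFunction H f)
    (hη : Cfsg.IsGeneralizedCharacter H η) (hχ : Cfsg.IsGeneralizedCharacter H χ)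
    (hfη : ∀ y, f y * η y = χ y)
    (hv : ∀ y, ∃ (v : ℤ) (c : ℕ), v.natAbs = p ^ c ∧ η y = v) (hint : ∀ y, IsIntegral ℤ (f y)) :
    Cfsg.IsGeneralizedCharacter H f := by
  classical
  haveI := Fintype.ofFinite H
  choose v c hvc hev using hv
  obtain ⟨θ, hθ, hθv⟩ := exists_interp hη (Finset.univ.image v)
  set Pv := ∏ w ∈ Finset.univ.image v, w with hPv
  obtain ⟨K, hK⟩ : ∃ K, Pv.natAbs = p ^ K := by
    rw [hPv]
    refine Finset.prod_induction (M := ℤ) _ (fun z => ∃ K, z.natAbs = p ^ K) ?_ ⟨0, rfl⟩ ?_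
    · rintro a b ⟨i, hi⟩ ⟨j, hj⟩
      exact ⟨i + j, by rw [Int.natAbs_mul, hi, hj, pow_add]⟩
    · intro z hz
      obtain ⟨y, -, rfl⟩ := Finset.mem_image.1 hz
      exact ⟨c y, hvc y⟩
  have hPvθ : (fun y => (Pv : ℂ) * f y) = χ * θ := funext fun y => by
    have h1 := hθv y (v y) (Finset.mem_image_of_mem v (Finset.mem_univ y)) (hev y)
    rw [Pi.mul_apply, ← hfη y, hev y, ← h1]; ring
  refine isGeneralized_of_coeff hf fun lam => ?_
  obtain ⟨z, hz⟩ := IsGeneralizedCharacter.exists_mult (IsGeneralizedCharacter.mul hχ hθ) lam.2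
  rw [← hPvθ] at hz
  have hz' : (Pv : ℂ) * Cfsg.classInner f lam = (z : ℂ) := by
    rw [← hz, classInner_def, classInner_def, ← mul_assoc, mul_comm (Pv : ℂ), mul_assoc, Finset.mul_sum]
    simp only [mul_assoc]
  have hPv0 : Pv ≠ 0 := fun h => by
    rw [h, Int.natAbs_zero] at hK
    exact (pow_pos hp.pos K).ne hK
  have hI : IsIntegral ℤ (((Nat.card H : ℤ) * z : ℤ) / (Pv : ℂ)) := by
    have e : (((Nat.card H : ℤ) * z : ℤ) : ℂ) / (Pv : ℂ) =
        ∑ y : H, f y * conj ((lam : H → ℂ) y) := by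
      push_cast
      rw [← hz', classInner_def]
      have h1 : (Pv : ℂ) ≠ 0 := Int.cast_ne_zero.2 hPv0
      have h2 : (Nat.card H : ℂ) ≠ 0 := Nat.cast_ne_zero.2 Nat.card_pos.ne'
      field_simp
    rw [e]
    exact IsIntegral.sum _ fun y _ => (hint y).mul
      (IsCharacter.isIntegral (IsCharacter.conjugate (isCharacter_of_irr lam.2)) _)
  obtain ⟨n, hn⟩ : Pv ∣ z := by
    have h1 : Pv ∣ (Nat.card H : ℤ) * z := by
      obtain ⟨w, hw⟩ := int_of_isIntegral_rat (q := (((Nat.card H : ℤ) * z : ℤ) : ℚ) / (Pv : ℚ))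
        (by push_cast at hI ⊢; exact hI)
      refine ⟨w, ?_⟩
      rw [div_eq_iff (Int.cast_ne_zero.2 hPv0)] at hw
      rw [mul_comm Pv]
      exact_mod_cast hw
    refine Int.dvd_of_dvd_mul_right_of_gcd_one h1 ?_
    rw [Int.gcd_def, hK, Int.natAbs_natCast]
    exact ((hp.coprime_iff_not_dvd.2 hH).pow_left K)
  refine ⟨n, mul_left_cancel₀ (Int.cast_ne_zero.2 hPv0) ?_⟩
  rw [hz', hn]; push_cast; ring

theorem exists_pow_of_pow_eq_one {k : ℕ} (hp : p.Prime) (hreg : ∀ x : G, ¬ p ∣ orderOf x → x ^ k = x)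
    {u : G} (hu : u ^ k = 1) : ∃ e, orderOf u = p ^ e := by
  set e := (orderOf u).factorization p
  have hpos := (orderOf_pos u).ne'
  have h1 : ¬ p ∣ orderOf (u ^ p ^ e) := by
    rw [orderOf_pow_of_dvd (pow_pos hp.pos e).ne' (Nat.ordProj_dvd _ _)]
    exact Nat.not_dvd_ordCompl hp hpos
  have h2 : u ^ p ^ e = 1 := by
    rw [← hreg _ h1, ← pow_mul, mul_comm, pow_mul, hu, one_pow]
  obtain ⟨i, -, hi⟩ := (Nat.dvd_prime_pow hp).1 (orderOf_dvd_of_pow_eq_one h2)
  exact ⟨i, hi⟩

variable {P : Cfsg.BNPair G} {U : Subgroup G}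

/-- **Uniqueness of the character of defect zero.** -/
theorem eq_st_of_defect_zero (S : Split P U p) (ho : Opp P U)
    (hR : ∀ K : Finset G, (K : Set G) ⊆ P.S → RadNormal P U (K : Set G))
    (hgen : Subgroup.closure {u : G | ∃ e, orderOf u = p ^ e} = ⊤)
    {χ : G → ℂ} (hχ : Cfsg.IsIrrCharacter G χ) (hdeg : Nat.card ↥U ∣ deg χ) : χ = st P := by
  classical
  haveI := Fintype.ofFinite G
  have hp := S.prime
  haveI := Fact.mk hp
  obtain ⟨k, hreg, hpel, hkreg⟩ := exists_regular_exp (G := G) hp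
  have hUc := factorization_eq S
  set a := (Nat.card G).factorization p with ha
  have hχc := isCharacter_of_irr hχ
  have hstc := isCharacter_of_irr (isIrr_st S ho)
  have hn' : ¬ p ^ (a + 1) ∣ Nat.card G := fun h => by
    have := (hp.pow_dvd_iff_le_factorization Nat.card_pos.ne').1 h
    omega
  have hχ0 : ∀ x, p ∣ orderOf x → χ x = 0 := fun x hx =>
    eq_zero_of_defect_zero hχ hp (Nat.ordProj_dvd _ _) hn' (by rw [← ha, hUc]; exact hdeg) hx
  have hst : ∀ s : G, ¬ p ∣ orderOf s → ∃ (v : ℤ) (c : ℕ), v.natAbs = p ^ c ∧ st P s = v ∧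
      c = (Nat.card (Subgroup.centralizer ({s} : Set G))).factorization p := fun s hs => by
    obtain ⟨ε, hε, e⟩ := st_eq_pm S ho hR hs
    refine ⟨ε * (p : ℤ) ^ (Nat.card (Subgroup.centralizer ({s} : Set G))).factorization p, _, ?_, ?_, rfl⟩
    · rcases hε with rfl | rfl <;> simp [Int.natAbs_mul, Int.natAbs_pow]
    · rw [e]; push_cast; ring
  have hst0 : ∀ s : G, ¬ p ∣ orderOf s → st P s ≠ 0 := fun s hs => by
    obtain ⟨v, c, hv, e, -⟩ := hst s hs
    rw [e, Int.cast_ne_zero]
    exact fun h => (pow_pos hp.pos c).ne (by rw [← hv, h, Int.natAbs_zero])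
  have hquot : ∀ s : G, ¬ p ∣ orderOf s → IsIntegral ℤ (χ s / st P s) := fun s hs => by
    obtain ⟨v, c, hv, e, hc⟩ := hst s hs
    have h2 : IsIntegral ℤ (χ s / (p : ℂ) ^ c) := by
      rw [hc]; exact isIntegral_div_cent hp hχ (by rw [← ha, hUc]; exact hdeg) s
    have hvp : (v : ℂ) = (p : ℂ) ^ c ∨ (v : ℂ) = -(p : ℂ) ^ c := by
      rcases Int.natAbs_eq v with h | h <;> rw [h, hv]
      · left; push_cast; rfl
      · right; push_cast; rfl
    rw [e]
    rcases hvp with h | h <;> rw [h]
    · exact h2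
    · rw [div_neg]; exact h2.neg
  let f : G → ℂ := fun g => χ (g ^ k) / st P (g ^ k)
  have hfc : Cfsg.IsClassFunction G f := fun g y => by
    simp only [f, conj_pow]
    rw [isClassFunction_isChar hχc, isClassFunction_isChar hstc]
  have hgen' : Cfsg.IsGeneralizedCharacter G f := by
    refine Cfsg.Lib.Blocks.isGeneralized_of_elementary hfc fun E hE => ?_
    obtain ⟨q, hq, hel⟩ := hE
    have := Cfsg.Lib.Blocks.isNilpotent_of_isElementary hq hel
    obtain ⟨Q, hQ, hQp, P', hPQ, ⟨t, ht⟩, hcomm⟩ := exists_regular_part (E := E) p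
    have hQreg : ∀ y : Q, ¬ p ∣ orderOf (((y : E) : G)) := fun y => by
      rw [Subgroup.orderOf_coe]; exact (hQ _).1 y.2
    have hPk : ∀ x ∈ P', x ^ k = 1 := fun x hx => by
      have h1 : orderOf x ∣ p ^ t := ht ▸ Subgroup.orderOf_dvd_natCard _ hx
      obtain ⟨i, -, hi⟩ := (Nat.dvd_prime_pow hp).1 h1
      exact Subtype.ext (by
        rw [SubgroupClass.coe_pow, hpel _ ⟨i, by rw [Subgroup.orderOf_coe, hi]⟩]; rfl)
    have hcp : Subgroup.IsComplement' P' Q :=
      Subgroup.isComplement'_of_coprime hPQ (by rw [ht]; exact (hp.coprime_iff_not_dvd.2 hQp).pow_left _)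
    have hdec : ∀ z : E, ∃ x ∈ P', ∃ y ∈ Q, x * y = z ∧ z ^ k = y := fun z => by
      obtain ⟨⟨⟨x, hx⟩, ⟨y, hy⟩⟩, hxy : x * y = z⟩ := hcp.surjective z
      refine ⟨x, hx, y, hy, hxy, ?_⟩
      rw [← hxy, (show Commute x y from hcomm x hx y hy).mul_pow, hPk x hx, one_mul]
      exact Subtype.ext (by rw [SubgroupClass.coe_pow, hreg _ (hQreg ⟨y, hy⟩)])
    let π : E →* Q := MonoidHom.mk' (fun z => ⟨z ^ k, by
      obtain ⟨x, hx, y, hy, -, h⟩ := hdec z
      rw [h]; exact hy⟩) fun z z' => Subtype.ext (by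
        obtain ⟨x, hx, y, hy, rfl, h⟩ := hdec z
        obtain ⟨x', hx', y', hy', rfl, h'⟩ := hdec z'
        show (x * y * (x' * y')) ^ k = (x * y) ^ k * (x' * y') ^ k
        rw [h, h', show x * y * (x' * y') = x * (y * x') * y' by group, ← hcomm x' hx' y hy,
          show x * (x' * y) * y' = (x * x') * (y * y') by group,
          (show Commute (x * x') (y * y') from hcomm _ (mul_mem hx hx') _ (mul_mem hy hy')).mul_pow,
          hPk _ (mul_mem hx hx'), one_mul]
        exact Subtype.ext (by rw [SubgroupClass.coe_pow, hreg _ (hQreg ⟨_, mul_mem hy hy'⟩)]))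
    let ι : Q →* G := E.subtype.comp Q.subtype
    have hQf : Cfsg.IsGeneralizedCharacter Q (fun y => χ (ι y) / st P (ι y)) := by
      refine isGeneralized_of_div hp hQp (fun g y => ?_)
        (IsCharacter.isGeneralized (IsCharacter.comp_hom hstc ι))
        (IsCharacter.isGeneralized (IsCharacter.comp_hom hχc ι))
        (fun y => div_mul_cancel₀ _ (hst0 _ (hQreg y))) (fun y => ?_) (fun y => hquot _ (hQreg y))
      · simp only [map_mul, map_inv]
        rw [isClassFunction_isChar hχc, isClassFunction_isChar hstc]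
      · obtain ⟨v, c, h1, h2, -⟩ := hst _ (hQreg y)
        exact ⟨v, c, h1, h2⟩
    exact IsGeneralizedCharacter.comp_hom hQf π
  have hnorm : Cfsg.classInner f f = 1 := by
    rw [classInner_def]
    have hfib : ∀ s : G, ∑ g ∈ Finset.univ.filter (fun g => g ^ k = s), f g * conj (f g) =
        χ s * conj (χ s) := fun s => by
      rw [Finset.sum_congr rfl fun g hg => show f g * conj (f g) =
          χ s / st P s * conj (χ s / st P s) by simp only [f, (Finset.mem_filter.1 hg).2],
        Finset.sum_const, nsmul_eq_mul]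
      by_cases hs : p ∣ orderOf s
      · rw [hχ0 s hs]; simp
      have hcard : ((Finset.univ.filter fun g : G => g ^ k = s).card : ℂ) = st P s ^ 2 := by
        rw [← card_cent_pelements S ho hR hs, ← Fintype.card_subtype, ← Nat.card_eq_fintype_card]
        congr 1
        refine Nat.card_congr
          { toFun := fun g => ⟨s⁻¹ * g.1, ?_, ?_⟩
            invFun := fun u => ⟨s * u.1, ?_⟩
            left_inv := fun g => Subtype.ext (by simp)
            right_inv := fun u => Subtype.ext (by simp) }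
        · refine exists_pow_of_pow_eq_one hp hreg ?_
          have hc : Commute s g.1 := (g.2 : g.1 ^ k = s).subst (motive := fun z => Commute z g.1)
            (Commute.pow_left (Commute.refl g.1) k)
          rw [hc.inv_left.mul_pow, inv_pow, hreg s hs, (g.2 : g.1 ^ k = s), inv_mul_cancel]
        · have hc : Commute s g.1 := (g.2 : g.1 ^ k = s).subst (motive := fun z => Commute z g.1)
            (Commute.pow_left (Commute.refl g.1) k)
          exact ((Commute.refl s).inv_right).mul_right hc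
        · rw [u.2.2.mul_pow, hreg s hs, hpel _ u.2.1, mul_one]
      obtain ⟨v, c, -, e, -⟩ := hst s hs
      have hv0 : (v : ℂ) ≠ 0 := e ▸ hst0 s hs
      rw [hcard, map_div₀, e, map_intCast]
      field_simp
    rw [← Finset.sum_fiberwise Finset.univ (fun g : G => g ^ k),
      Finset.sum_congr rfl fun s _ => hfib s, ← classInner_def]
    exact classInner_self_irr hχ
  have hf1 : f 1 = (deg χ : ℂ) / (Nat.card ↥U : ℂ) := by
    simp only [f, one_pow]; rw [IsCharacter.apply_one_eq_deg hχc, st_one S ho]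
  have hfu : ∀ u, (∃ e, orderOf u = p ^ e) → f u = f 1 := fun u hu => by
    simp only [f, one_pow, hpel u hu]
  have hconst : ∀ g, f g = f 1 := by
    rcases isIrr_or_neg_of_norm_one hgen' hnorm with h | h
    · have hc := isCharacter_of_irr h
      intro g
      refine (mem_kerSubgroup hc g).1 ((?_ : (⊤ : Subgroup G) ≤ kerSubgroup f hc) (Subgroup.mem_top g))
      rw [← hgen, Subgroup.closure_le]
      exact fun u hu => hfu u hu
    · have hc := isCharacter_of_irr h
      intro g
      refine neg_injective ((mem_kerSubgroup hc g).1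
        ((?_ : (⊤ : Subgroup G) ≤ kerSubgroup (-f) hc) (Subgroup.mem_top g)))
      rw [← hgen, Subgroup.closure_le]
      exact fun u hu => congrArg Neg.neg (hfu u hu)
  have hf11 : f 1 = 1 := by
    obtain ⟨m, hm⟩ := hdeg
    have hU : (Nat.card ↥U : ℂ) ≠ 0 := Nat.cast_ne_zero.2 Nat.card_pos.ne'
    rw [hm, Nat.cast_mul, mul_div_cancel_left₀ _ hU] at hf1
    rw [hf1] at hconst
    rw [classInner_def] at hnorm
    simp only [hconst, Finset.sum_const, Finset.card_univ, nsmul_eq_mul, Complex.conj_natCast,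
      Nat.card_eq_fintype_card] at hnorm
    rw [inv_mul_cancel_left₀ (Nat.cast_ne_zero.2 (Fintype.card_ne_zero (α := G)))] at hnorm
    have h1 : m * m = 1 := by exact_mod_cast hnorm
    rw [hf1, Nat.eq_one_of_mul_eq_one_right h1, Nat.cast_one]
  funext g
  by_cases hg : p ∣ orderOf g
  · rw [hχ0 g hg, st_eq_zero S ho hg]
  · have h1 := hconst g
    simp only [f, hreg g hg] at h1
    rwa [show χ ((1 : G) ^ k) / st P ((1 : G) ^ k) = 1 from hf11, div_eq_one_iff_eq (hst0 g hg)] at h1

end Cfsg.Lib.Steinberg
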