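import Cfsg.Agent.Chev.Parab
import Cfsg.Agent.Chev.Desc
import Cfsg.Agent.Chev.More

/-! Linearity of the reflections on root coefficients; a longest element of a parabolic Weyl group. -/

set_option autoImplicit false

open Cfsg.Lie Cfsg.Lib.Chev

namespace Cfsg.Lib.Steinberg

/-- Certificate: `w_i` changes only the `i`-th coefficient, linearly; positive roots are nonzero. -/
noncomputable def okLin (D : ChevalleyDatum) (C : Cert) (T : List (List ℤ)) : Bool :=
  kall (fun i =>
    let c := kmap (fun j => htAt T (C.w i (D.simpleIdx.getD j 0)) i) (krange 0 D.rank)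
    kall (fun r =>
      kall (fun k => Bool.rec (decide (htAt T (C.w i r) k = htAt T r k))
        (decide (htAt T (C.w i r) k = ((krange 0 D.rank).map fun j => htAt T r j * c.getD j 0).sum))
        (Nat.beq k i)) (krange 0 D.rank))
      (krange 0 D.nroots)) (krange 0 D.rank) &&
  kall (fun r => !kall (fun k => decide (htAt T r k = 0)) (krange 0 D.rank)) (krange 0 D.nroots)

theorem G2_lin : okLin chevG2 G2.cert G2.htTab = true := by decide +kernel
theorem B2_lin : okLin chevB2 B2.cert B2.htTab = true := by decide +kernel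
theorem D4_lin : okLin chevD4 D4.cert D4.htTab = true := by decide +kernel
theorem F4_lin : okLin chevF4 F4.cert F4.htTab = true := by decide +kernel
theorem E6_lin : okLin chevE6 E6.cert E6.htTab = true := by decide +kernel
theorem E7_lin : okLin chevE7 E7.cert E7.htTab = true := by decide +kernel
theorem E8_lin : okLin chevE8 E8.cert E8.htTab = true := by decide +kernel

theorem lin_of_mem {D : ChevalleyDatum}
    (hD : D ∈ [chevG2, chevB2, chevD4, chevF4, chevE6, chevE7, chevE8]) :
    ∃ C T, Struct D C ∧ okNeg D = true ∧ okHt D T = true ∧ okDescJ C T = true ∧ okLin D C T = true := by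
  simp only [List.mem_cons, List.not_mem_nil, or_false] at hD
  rcases hD with rfl | rfl | rfl | rfl | rfl | rfl | rfl
  · exact ⟨_, _, ⟨G2.ok, G2.okChain_, G2.okBase_all, okOrder_G2⟩, okNeg_G2, G2.ht, G2.descJ, G2_lin⟩
  · exact ⟨_, _, ⟨B2.ok, B2.okChain_, B2.okBase_all, okOrder_B2⟩, okNeg_B2, B2.ht, B2.descJ, B2_lin⟩
  · exact ⟨_, _, ⟨D4.ok, D4.okChain_, D4.okBase_all, okOrder_D4⟩, okNeg_D4, D4.ht, D4.descJ, D4_lin⟩
  · exact ⟨_, _, ⟨F4.ok, F4.okChain_, F4.okBase_all, okOrder_F4⟩, okNeg_F4, F4.ht, F4.descJ, F4_lin⟩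
  · exact ⟨_, _, ⟨E6.ok, E6.okChain_, E6.okBase_all, okOrder_E6⟩, okNeg_E6, E6.ht, E6.descJ, E6_lin⟩
  · exact ⟨_, _, ⟨E7.ok, E7.okChain_, E7.okBase_all, okOrder_E7⟩, okNeg_E7, E7.ht, E7.descJ, E7_lin⟩
  · exact ⟨_, _, ⟨E8.ok, E8.okChain_, E8.okBase_all, okOrder_E8⟩, okNeg_E8, E8.ht, E8.descJ, E8_lin⟩

variable {D : ChevalleyDatum} {C : Cert} {T : List (List ℤ)}

theorem sum_krange (n : ℕ) (f : ℕ → ℤ) : ((krange 0 n).map f).sum = ∑ j : Fin n, f j := by
  rw [krange_eq, ← List.range_eq_range', ← List.sum_ofFn, List.ofFn_eq_map, ← List.map_coe_finRange_eq_range,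
    List.map_map]
  rfl

theorem lin_ne (hl : okLin D C T = true) {i r k : ℕ} (hi : i < D.rank) (hr : r < D.nroots) (hk : k < D.rank)
    (hki : k ≠ i) : htAt T (C.w i r) k = htAt T r k := by
  simp only [okLin, Bool.and_eq_true, kall_iff] at hl
  have h := hl.1 i (by rw [krange_eq, List.mem_range'_1]; omega) r (by rw [krange_eq, List.mem_range'_1]; omega)
    k (by rw [krange_eq, List.mem_range'_1]; omega)
  rw [show Nat.beq k i = false from by
    cases hb : Nat.beq k i
    · rfl
    · exact absurd (Nat.eq_of_beq_eq_true hb) hki] at h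
  exact of_decide_eq_true h

theorem lin_eq (hl : okLin D C T = true) {i r : ℕ} (hi : i < D.rank) (hr : r < D.nroots) :
    htAt T (C.w i r) i = ∑ j : Fin D.rank, htAt T r j * htAt T (C.w i (D.simple j)) i := by
  simp only [okLin, Bool.and_eq_true, kall_iff] at hl
  have h := hl.1 i (by rw [krange_eq, List.mem_range'_1]; omega) r (by rw [krange_eq, List.mem_range'_1]; omega)
    i (by rw [krange_eq, List.mem_range'_1]; omega)
  rw [show Nat.beq i i = true from Nat.beq_refl i] at h
  rw [of_decide_eq_true h, sum_krange]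
  refine Finset.sum_congr rfl fun j _ => ?_
  congr 1
  rw [kmap_eq, krange_eq, List.getD_eq_getElem?_getD]
  simp [j.isLt, ChevalleyDatum.simple]

theorem exists_ne_zero (hl : okLin D C T = true) {r : ℕ} (hr : r < D.nroots) :
    ∃ k < D.rank, htAt T r k ≠ 0 := by
  simp only [okLin, Bool.and_eq_true, kall_iff] at hl
  have h := hl.2 r (by rw [krange_eq, List.mem_range'_1]; omega)
  simp only [Bool.not_eq_true', ← Bool.not_eq_true, kall_iff, not_forall, decide_eq_true_eq] at h
  obtain ⟨k, hk, hk'⟩ := h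
  rw [krange_eq, List.mem_range'_1] at hk
  exact ⟨k, by omega, hk'⟩

theorem ht_wpL (S : Struct D C) (hT : okHt D T = true) (hl : okLin D C T = true) :
    ∀ (L : List (Fin D.rank)) (r : Fin D.nroots) (k : ℕ), k < D.rank →
      htAt T (S.wpL L r).val k = ∑ j : Fin D.rank, htAt T r.val j * htAt T (S.wpL L (S.sp j)).val k := by
  intro L
  induction L with
  | nil =>
    intro r k hk
    simp only [Struct.wpL, List.map_nil, List.prod_nil, Equiv.Perm.one_apply, Struct.sp]
    rw [Finset.sum_eq_single (⟨k, hk⟩ : Fin D.rank)]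
    · rw [S.ok.sr_eq hk, ht_simple hT hk hk, if_pos rfl, mul_one]
    · intro j _ hj
      rw [S.ok.sr_eq j.isLt, ht_simple hT j.isLt hk, if_neg (fun e => hj (Fin.ext e)), mul_zero]
    · simp
  | cons i L ih =>
    intro r k hk
    have hstep : ∀ s, (S.wpL (i :: L) s).val = C.w i.val (S.wpL L s).val := fun s => by
      simp [Struct.wpL, Equiv.Perm.mul_apply, Struct.wp_val]
    simp only [hstep]
    by_cases hki : k = i.val
    · subst hki
      rw [lin_eq hl i.isLt (Fin.isLt _)]
      refine (Finset.sum_congr rfl fun m _ => by rw [ih r m m.isLt, Finset.sum_mul]).trans ?_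
      rw [Finset.sum_comm]
      refine Finset.sum_congr rfl fun a _ => ?_
      rw [lin_eq hl i.isLt (Fin.isLt (S.wpL L (S.sp a))), Finset.mul_sum]
      exact Finset.sum_congr rfl fun b _ => by ring
    · simp only [lin_ne hl i.isLt (Fin.isLt _) hk hki]
      exact ih r k hk

/-- A word in `J` sending every positive root of `Φ_J` to a negative root. -/
theorem exists_neg_word (S : Struct D C) (hT : okHt D T = true) (hl : okLin D C T = true)
    (J : Set ℕ) : ∃ L : List (Fin D.rank), (∀ i ∈ L, i.val ∈ J) ∧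
      ∀ r : Fin D.nroots, D.nroots / 2 ≤ r.val → D.InRootSub J r.val → (S.wpL L r).val < D.nroots / 2 := by
  classical
  let W := {w : Equiv.Perm (Fin D.nroots) // ∃ L : List (Fin D.rank), (∀ i ∈ L, i.val ∈ J) ∧ w = S.wpL L}
  haveI : Nonempty W := ⟨⟨1, [], by simp, rfl⟩⟩
  obtain ⟨⟨w, L, hL, rfl⟩, hmax⟩ := Finite.exists_max fun w : W => Struct.Nw D w.1
  have hneg : ∀ j : Fin D.rank, j.val ∈ J → (S.wpL L (S.sp j)).val < D.nroots / 2 := by
    intro j hj
    by_contra hcon
    push Not at hcon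
    have h := hmax ⟨S.wpL (L ++ [j]), L ++ [j], fun i hi => by
      rcases List.mem_append.1 hi with h | h
      · exact hL i h
      · rw [List.mem_singleton.1 h]; exact hj, rfl⟩
    have e : S.wpL (L ++ [j]) = S.wpL L * S.wp j := by simp [Struct.wpL]
    simp only [e, Struct.Nw] at h
    have hsj : (S.wp j (S.sp j)).val = D.neg (C.sr j) := by
      rw [Struct.wp_val, Struct.sp, (S.ok.refl_simple j.isLt).1, S.ok.neg_eq (S.ok.sr_lt j.isLt)]
    have hlt := S.neg_lt_half (S.ok.sr_lt j.isLt) (S.sr_pos j.isLt)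
    let A := Finset.univ.filter fun r : Fin D.nroots => D.nroots / 2 ≤ r.val ∧ (S.wpL L r).val < D.nroots / 2
    have hsub : insert (S.sp j) (A.image (S.wp j)) ⊆
        Finset.univ.filter fun r : Fin D.nroots =>
          D.nroots / 2 ≤ r.val ∧ ((S.wpL L * S.wp j) r).val < D.nroots / 2 := by
      intro r hr
      rw [Finset.mem_filter]
      refine ⟨Finset.mem_univ _, ?_⟩
      rcases Finset.mem_insert.1 hr with rfl | hr
      · refine ⟨S.sr_pos j.isLt, ?_⟩
        have hn : D.neg (C.sr j) < D.nroots := by omega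
        rw [Equiv.Perm.mul_apply, show S.wp j (S.sp j) = ⟨D.neg (C.sr j), hn⟩ from Fin.ext hsj,
          show (S.wpL L ⟨D.neg (C.sr j), hn⟩).val = D.neg (S.wpL L (S.sp j)).val from S.wp_neg L (S.sp j) hn]
        exact S.neg_lt_half (Fin.isLt _) hcon
      · obtain ⟨a, ha, rfl⟩ := Finset.mem_image.1 hr
        obtain ⟨-, ha1, ha2⟩ := Finset.mem_filter.1 ha
        have hne : a.val ≠ C.sr j := fun e => by
          rw [show a = S.sp j from Fin.ext e] at ha2; omega
        refine ⟨by rw [Struct.wp_val]; exact S.pos_w j.isLt ha1 a.isLt hne, ?_⟩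
        rw [Equiv.Perm.mul_apply, ← Equiv.Perm.mul_apply (S.wp j), S.wp_mul_self]
        exact ha2
    have hnot : S.sp j ∉ A.image (S.wp j) := by
      intro hm
      obtain ⟨a, ha, e⟩ := Finset.mem_image.1 hm
      have : a = S.wp j (S.sp j) := by
        rw [← e, ← Equiv.Perm.mul_apply, S.wp_mul_self, Equiv.Perm.one_apply]
      have h1 := (Finset.mem_filter.1 ha).2.1
      rw [this, hsj] at h1
      omega
    have h2 := Finset.card_le_card hsub
    rw [Finset.card_insert_of_notMem hnot, Finset.card_image_of_injective _ (S.wp j).injective] at h2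
    simp only [A] at h2
    omega
  refine ⟨L, hL, fun r hr hrJ => ?_⟩
  by_contra hcon
  push Not at hcon
  obtain ⟨k, hk, hk0⟩ := exists_ne_zero hl (Fin.isLt (S.wpL L r))
  have h1 := S.ht_nonneg hT hcon (Fin.isLt _) hk
  have h2 : htAt T (S.wpL L r).val k ≤ 0 := by
    rw [ht_wpL S hT hl L r k hk]
    refine Finset.sum_nonpos fun j _ => ?_
    by_cases hj : j.val ∈ J
    · refine mul_nonpos_of_nonneg_of_nonpos (S.ht_nonneg hT hr r.isLt j.isLt) ?_
      obtain ⟨n1, n2, n3⟩ := S.neg_pos (hneg j hj)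
      have h3 := S.ht_nonneg hT n1 n2 hk
      rw [(ht_row hT (Fin.isLt _) hk).1] at h3
      omega
    · rw [((Struct.inRootSub_iff hT).1 hrJ).2 j j.isLt hj, zero_mul]
  omega

end Cfsg.Lib.Steinberg
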