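import Cfsg.Agent.Steinberg.Irr
import Cfsg.Agent.Steinberg.Linear
import Cfsg.Agent.Chev.BNP
import Cfsg.Agent.Chev.Bruhat
import Cfsg.Agent.Chev.Opp

/-! The Steinberg character of the tabulated Chevalley groups. -/

set_option autoImplicit false

open Cfsg.Lie Cfsg.Lib.Chev
open scoped Pointwise

namespace Cfsg.Lib.Steinberg

variable {D : ChevalleyDatum} {C : Cert} {T : List (List ℤ)} {F : Type*} [Field F]

/-- What the general theory needs from a Chevalley group. -/
structure ChevData (D : ChevalleyDatum) (F : Type*) [Field F] [Finite F] (p : ℕ) (P : Cfsg.BNPair ↥(D.group F))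
    (U : Subgroup ↥(D.group F)) : Prop where
  B_eq : P.B = (D.borelSubgroup F).subgroupOf (D.group F)
  H_eq : P.B ⊓ P.N = (D.diagonalSubgroup F).subgroupOf (D.group F)
  split : Split P U p
  opp : Opp P U
  card_U : Nat.card ↥U = Nat.card F ^ (D.nroots / 2)
  st_eq : D.steinbergCharacter F = st P
  rad : ∀ K : Finset ↥(D.group F), K ⊆ gens P → RadNormal P U (K : Set ↥(D.group F))
  U_eq : U = (D.posUnipotent F).subgroupOf (D.group F)

/-- The generator attached to a fundamental root. -/
noncomputable def gen (S : Struct D C) (F : Type*) [Field F] (i : ℕ) : ↥(D.group F) :=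
  if h : i < D.rank then S.gS F ⟨i, h⟩ else 1

theorem parabolic_image (S : Struct D C) (P : Cfsg.BNPair ↥(D.group F))
    (hB : P.B = (D.borelSubgroup F).subgroupOf (D.group F)) [DecidableEq ↥(D.group F)] (J : Finset ℕ)
    (hJ : J ⊆ Finset.range D.rank) :
    P.parabolic ((J.image (gen S F) : Finset ↥(D.group F)) : Set ↥(D.group F)) = D.parabolicIn F J := by
  refine Subgroup.map_injective (Subgroup.subtype_injective (D.group F)) ?_
  have hval : ∀ j < D.rank, ((gen S F j : ↥(D.group F)) : GL D.Idx F) = S.ok.nG (D.simple j) 1 := by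
    intro j hj; simp [gen, hj, Struct.gS]
  have hPle : D.parabolicSubgroup F (J : Set ℕ) ≤ D.group F := by
    refine sup_le S.borel_le_group ((Subgroup.closure_le _).2 ?_)
    rintro g ⟨j, -, hj, hg⟩
    rw [show g = S.ok.nG (D.simple j) 1 from Units.ext (by rw [hg, S.ok.val_nG])]
    exact S.ok.nG_mem_group _ _
  rw [ChevalleyDatum.parabolicIn, Cfsg.BNPair.parabolic, Subgroup.map_sup, hB, MonoidHom.map_closure,
    Subgroup.map_subgroupOf_eq_of_le S.borel_le_group, Subgroup.map_subgroupOf_eq_of_le hPle,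
    ChevalleyDatum.parabolicSubgroup]
  congr 2
  ext g
  simp only [Finset.coe_image, Set.mem_image, Finset.mem_coe, Set.mem_setOf_eq, Subgroup.coe_subtype]
  constructor
  · rintro ⟨x, ⟨j, hj, rfl⟩, rfl⟩
    exact ⟨j, hj, Finset.mem_range.1 (hJ hj), by rw [hval j (Finset.mem_range.1 (hJ hj)), S.ok.val_nG]⟩
  · rintro ⟨j, hj, hjr, hg⟩
    exact ⟨_, ⟨j, hj, rfl⟩, by rw [hval j hjr]; exact Units.ext (by rw [hg, S.ok.val_nG])⟩

theorem card_diag_coprime [Fintype F] (p : ℕ) [Fact p.Prime] [CharP F p] (S : Struct D C) :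
    ¬ p ∣ Nat.card ↥(D.diagonalSubgroup F) := by
  intro h
  rw [S.ok.diagonalSubgroup_eq] at h
  have h1 : Nat.card ↥(Ok.tG D F).range ∣ Nat.card (Fin D.rank → Fˣ) := Subgroup.card_range_dvd _
  rw [Nat.card_fun, Nat.card_units, Nat.card_eq_fintype_card (α := F)] at h1
  have h2 := (Fact.out : p.Prime).dvd_of_dvd_pow (h.trans h1)
  obtain ⟨k, -, hk⟩ := FiniteField.card F p
  have h3 : p ∣ Fintype.card F := hk ▸ dvd_pow_self p k.pos.ne'
  have h4 := Nat.dvd_sub h3 h2
  rw [Nat.sub_sub_self Fintype.card_pos] at h4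
  exact (Fact.out : p.Prime).not_dvd_one h4

theorem exists_chevData [Fintype F] (p : ℕ) [Fact p.Prime] [CharP F p] (D : ChevalleyDatum)
    (hD : D ∈ [chevG2, chevB2, chevD4, chevF4, chevE6, chevE7, chevE8]) :
    ∃ P U, ChevData D F p P U := by
  classical
  obtain ⟨C, T, S, hN, hT, hDesc, hl⟩ := lin_of_mem hD
  have hd : ∀ i j : Fin D.rank, i ≠ j → C.sr i.val ≠ C.sr j.val := fun i j h => S.simple_ne hN i j h
  obtain ⟨P, hB, hPN, hS⟩ := S.exists_bnPair (F := F) hd
  set U := (D.posUnipotent F).subgroupOf (D.group F) with hU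
  have hUg : D.posUnipotent F ≤ D.group F := fun u hu => S.borel_le_group (S.B_le_of hu)
  have hH : P.B ⊓ P.N = (D.diagonalSubgroup F).subgroupOf (D.group F) := by
    ext x
    simp only [hB, hPN, Subgroup.mem_inf, Subgroup.mem_subgroupOf]
    rw [← S.B_inf_N, Subgroup.mem_inf]
  have hcardU : Nat.card ↥U = Nat.card F ^ (D.nroots / 2) := by
    rw [Nat.card_congr (Subgroup.subgroupOfEquivOfLe hUg).toEquiv, S.card_posUnipotent, Nat.card_eq_fintype_card]
  have hsplit : Split P U p := by
    refine ⟨Fact.out, ?_, ?_, ?_, ?_, ?_⟩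
    · intro u hu
      rw [hB, Subgroup.mem_subgroupOf]
      exact S.B_le_of hu
    · intro b hb u hu
      rw [hB, Subgroup.mem_subgroupOf] at hb
      obtain ⟨v, hv, d, hd', e⟩ := S.borel_decomp hb
      rw [hU, Subgroup.mem_subgroupOf] at hu ⊢
      have h1 := (Subgroup.mem_normalizer_iff.1 (S.diag_normalises_U hd') (u : GL D.Idx F)).1 hu
      have h2 := mul_mem (mul_mem hv h1) (inv_mem hv)
      simp only [Subgroup.coe_mul, Subgroup.coe_inv, e]
      convert h2 using 1
      group
    · intro b hb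
      rw [hB, Subgroup.mem_subgroupOf] at hb
      obtain ⟨v, hv, d, hd', e⟩ := S.borel_decomp hb
      exact ⟨⟨v, hUg hv⟩, hv, ⟨d, S.diag_le_group hd'⟩,
        by rw [hH, Subgroup.mem_subgroupOf]; exact hd', Subtype.ext e⟩
    · obtain ⟨k, -, hk⟩ := FiniteField.card F p
      exact IsPGroup.of_card (n := k.val * (D.nroots / 2))
        (by rw [hcardU, Nat.card_eq_fintype_card, hk, ← pow_mul])
    · rw [hH, Nat.card_congr (Subgroup.subgroupOfEquivOfLe S.diag_le_group).toEquiv]
      exact card_diag_coprime p S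
  have hopp : Opp P U := by
    obtain ⟨C', L', S', -, hL'⟩ := opp_of_mem hD
    obtain ⟨n, hn, w, ha, hw⟩ := S'.exists_opp (F := F) hL'
    have hmap := S'.opp_map ha hw
    refine ⟨(⟨n, S.mono_le_group hn⟩ : ↥(D.group F))⁻¹,
      inv_mem (by rw [hPN, Subgroup.mem_subgroupOf]; exact hn), fun u hu hb => ?_⟩
    rw [hB, Subgroup.mem_subgroupOf] at hb
    simp only [Subgroup.coe_mul, Subgroup.coe_inv, inv_inv] at hb
    have h1 : n * (u : GL D.Idx F) * n⁻¹ ∈ D.borelSubgroup F ⊓ D.negUnipotent F := by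
      refine Subgroup.mem_inf.2 ⟨hb, ?_⟩
      rw [← hmap]
      exact ⟨(u : GL D.Idx F), hu, rfl⟩
    rw [S.B_inf_V hN, Subgroup.mem_bot, mul_inv_eq_one] at h1
    exact Subtype.ext (mul_left_cancel (a := n) (h1.trans (mul_one n).symm))
  have hgval : ∀ j < D.rank, ((gen S F j : ↥(D.group F)) : GL D.Idx F) = S.ok.nG (D.simple j) 1 := by
    intro j hj; simp [gen, hj, Struct.gS]
  have hgens : gens P = (Finset.range D.rank).image (gen S F) := by
    ext x
    rw [← Finset.mem_coe, coe_gens, hS, Finset.mem_image]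
    constructor
    · rintro ⟨i, hi, e⟩
      exact ⟨i, Finset.mem_range.2 hi, Subtype.ext (by rw [hgval i hi]; exact (Units.ext (by rw [e, S.ok.val_nG])).symm)⟩
    · rintro ⟨i, hi, rfl⟩
      exact ⟨i, Finset.mem_range.1 hi, by rw [hgval i (Finset.mem_range.1 hi), S.ok.val_nG]⟩
  have hinj : Set.InjOn (gen S F) (Finset.range D.rank : Set ℕ) := by
    intro i hi j hj e
    have hi' : i < D.rank := Finset.mem_range.1 hi
    have hj' : j < D.rank := Finset.mem_range.1 hj
    have e' := congrArg (fun x : ↥(D.group F) => (x : GL D.Idx F)) e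
    simp only [hgval i hi', hgval j hj'] at e'
    exact congrArg Fin.val (S.nG_inv_mul_mem hd (i := ⟨i, hi'⟩) (j := ⟨j, hj'⟩)
      (by rw [show (⟨i, hi'⟩ : Fin D.rank).val = i from rfl, show (⟨j, hj'⟩ : Fin D.rank).val = j from rfl, e',
        inv_mul_cancel]; exact one_mem _))
  refine ⟨P, U, hB, hH, hsplit, hopp, hcardU, ?_, ?_, hU⟩
  · funext g
    rw [ChevalleyDatum.steinbergCharacter, st, hgens, Finset.powerset_image, Finset.sum_image]
    · refine Finset.sum_congr rfl fun J hJ => ?_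
      rw [Finset.mem_powerset] at hJ
      rw [Finset.card_image_of_injOn (hinj.mono (Finset.coe_subset.2 hJ)), parabolic_image S P hB J hJ]
    · intro a ha b hb e
      rw [Finset.mem_coe, Finset.mem_powerset] at ha hb
      have e' : gen S F '' (a : Set ℕ) = gen S F '' (b : Set ℕ) := by
        rw [← Finset.coe_image, ← Finset.coe_image]
        exact congrArg (fun z : Finset ↥(D.group F) => (z : Set ↥(D.group F))) e
      exact_mod_cast (hinj.image_eq_image_iff (Finset.coe_subset.2 ha) (Finset.coe_subset.2 hb)).1 e'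
  · intro K hK
    rw [hgens] at hK
    obtain ⟨J, hJ, rfl⟩ := Finset.subset_image_iff.1 hK
    have hJ' : J ⊆ Finset.range D.rank := Finset.coe_subset.1 hJ
    have hKS : ((J.image (gen S F) : Finset ↥(D.group F)) : Set ↥(D.group F)) ⊆ P.S := by
      rw [← coe_gens (P := P), hgens]; exact Finset.coe_subset.2 hK
    intro n hn htop u hu a ha
    obtain ⟨hnorm, hsup, -⟩ := S.levi (F := F) hT hDesc (J : Set ℕ)
    set R := (D.unipotentRadical F (J : Set ℕ)).subgroupOf (D.group F) with hR
    have hRU : D.unipotentRadical F (J : Set ℕ) ≤ D.posUnipotent F := by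
      refine Subgroup.closure_mono ?_
      rintro g ⟨r, t, hr, -, hg⟩
      exact ⟨r, t, hr, hg⟩
    have hparR : ∀ x ∈ P.parabolic ((J.image (gen S F) : Finset ↥(D.group F)) : Set ↥(D.group F)),
        ∀ y ∈ R, x⁻¹ * y * x ∈ R := by
      intro x hx y hy
      rw [parabolic_image S P hB J hJ', ChevalleyDatum.parabolicIn, Subgroup.mem_subgroupOf] at hx
      rw [hR, Subgroup.mem_subgroupOf] at hy ⊢
      have h1 := (Subgroup.mem_normalizer_iff.1 (hnorm (inv_mem hx)) (y : GL D.Idx F)).1 hy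
      simpa using h1
    have hge : ∀ y ∈ R, y ∈ rad P U n := by
      intro y hy
      refine mem_rad.2 ⟨hRU hy, ?_⟩
      rw [hB, Subgroup.mem_subgroupOf]
      exact S.B_le_of (hRU (hparR n (Subgroup.mem_sup_right hn) y hy))
    have hle : ∀ y ∈ rad P U n, y ∈ R := by
      intro y hy
      obtain ⟨L, hL, hneg⟩ := exists_neg_word S hT hl (J : Set ℕ)
      obtain ⟨hyU, hyn⟩ := mem_rad.1 hy
      set m : ↥(D.group F) := (L.map (S.gS F)).prod with hm
      have hmcl : m ∈ Subgroup.closure ((J.image (gen S F) : Finset ↥(D.group F)) : Set ↥(D.group F)) := by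
        refine list_prod_mem fun x hx => ?_
        obtain ⟨i, hi, rfl⟩ := List.mem_map.1 hx
        refine Subgroup.subset_closure (Finset.mem_coe.2 (Finset.mem_image.2 ⟨i.val, hL i hi, ?_⟩))
        simp [gen, i.isLt]
      have hmval : (m : GL D.Idx F) = S.nL F L := by
        rw [hm]; simp [Struct.nL, Struct.gS, Function.comp_def]
      have hfix := top_fix hKS hn htop (inv_mem hmcl) (hsplit.le hyU) hyn
      rw [inv_inv, hB, Subgroup.mem_subgroupOf] at hfix
      simp only [Subgroup.coe_mul, Subgroup.coe_inv, hmval] at hfix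
      set Ψ : Fin D.nroots → Prop := fun r => D.InRootSub (J : Set ℕ) r.val
      have hnormU : S.UPsi F Ψ ≤ Subgroup.normalizer (D.unipotentRadical F (J : Set ℕ) : Set (GL D.Idx F)) := by
        refine le_trans ?_ hnorm
        intro g hg
        exact Subgroup.mem_sup_left (S.B_le_of (S.UPsi_le Ψ hg))
      have hcover : D.posUnipotent F ≤ D.unipotentRadical F (J : Set ℕ) ⊔ S.UPsi F Ψ := by
        refine (Subgroup.closure_le _).2 ?_
        rintro g ⟨r, t, hr, hg⟩
        obtain ⟨a1, b1⟩ := S.isPos_iff.1 hr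
        by_cases hrJ : D.InRootSub (J : Set ℕ) r
        · exact Subgroup.mem_sup_right (Subgroup.subset_closure ⟨⟨r, b1⟩, t, a1, hrJ, S.ok.eq_xG hg⟩)
        · exact Subgroup.mem_sup_left (Subgroup.subset_closure ⟨r, t, hr, hrJ, hg⟩)
      have hy1 : (y : GL D.Idx F) ∈
          ((D.unipotentRadical F (J : Set ℕ) ⊔ S.UPsi F Ψ : Subgroup (GL D.Idx F)) : Set (GL D.Idx F)) := hcover hyU
      rw [Subgroup.coe_mul_of_right_le_normalizer_left _ _ hnormU] at hy1
      obtain ⟨v, hv, l, hlΨ, e⟩ := Set.mem_mul.1 hy1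
      have hmP : S.nL F L ∈ D.parabolicSubgroup F (J : Set ℕ) := by
        have h2 : m ∈ D.parabolicIn F J := by
          rw [← parabolic_image S P hB J hJ']; exact Subgroup.mem_sup_right hmcl
        rwa [ChevalleyDatum.parabolicIn, Subgroup.mem_subgroupOf, hmval] at h2
      have hl1 : S.nL F L * l * (S.nL F L)⁻¹ ∈ D.borelSubgroup F ⊓ D.negUnipotent F := by
        refine Subgroup.mem_inf.2 ⟨?_, S.conj_Neg (S.act_nL L) ?_⟩
        · have h3 := S.B_le_of (hRU ((Subgroup.mem_normalizer_iff.1 (hnorm hmP) v).1 hv))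
          rw [← e] at hfix
          have h4 := mul_mem (inv_mem h3) hfix
          convert h4 using 1
          group
        · refine Subgroup.closure_mono ?_ hlΨ
          rintro g ⟨r, t, hr, hrJ, rfl⟩
          exact ⟨r, t, hr, hneg r hr hrJ, rfl⟩
      rw [S.B_inf_V hN, Subgroup.mem_bot, mul_inv_eq_one] at hl1
      have hl2 : l = 1 := mul_left_cancel (a := S.nL F L) (hl1.trans (mul_one _).symm)
      rw [hR, Subgroup.mem_subgroupOf, ← e, hl2, mul_one]
      exact hv
    refine hge _ ?_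
    have h5 := hparR a⁻¹ (Subgroup.mem_sup_left (hsplit.le (inv_mem ha))) u (hle u hu)
    rwa [inv_inv] at h5

end Cfsg.Lib.Steinberg
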