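import Cfsg.Agent.Steinberg.Irr

/-! `U` is a Sylow subgroup; vanishing of the Steinberg character at singular elements; p-element count. -/

set_option autoImplicit false

namespace Cfsg.Lib.Steinberg

open Cfsg.Lib.BN Cfsg.Lib.Chars
open scoped Pointwise

variable {G : Type*} [Group G] [Finite G] {P : Cfsg.BNPair G} {U : Subgroup G} {p : ℕ}

theorem not_dvd_index_B (S : Split P U p) : ¬ p ∣ Nat.card (Pt P) := by
  haveI : Fact p.Prime := ⟨S.prime⟩
  intro hd
  have hfix : MulAction.fixedPoints ↥U (Pt P) = {((1 : G) : Pt P)} := by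
    ext x
    induction x using QuotientGroup.induction_on with
    | _ y =>
      rw [MulAction.mem_fixedPoints, Set.mem_singleton_iff]
      constructor
      · intro h
        refine eq_one_of_fixed_by_U S fun v hv => ?_
        exact smul_eq_self_iff.1 (h ⟨v, hv⟩)
      · intro h v
        rw [h]
        show (v : G) • ((1 : G) : Pt P) = _
        rw [smul_eq_self_iff]
        simpa using S.le v.2
  have h1 := S.isPGroup.card_modEq_card_fixedPoints (Pt P)
  rw [hfix, Nat.card_coe_set_eq {((1 : G) : Pt P)}, Set.ncard_singleton] at h1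
  unfold Nat.ModEq at h1
  rw [Nat.mod_eq_zero_of_dvd hd, Nat.one_mod_eq_one.2 S.prime.ne_one] at h1
  omega

theorem factorization_eq (S : Split P U p) :
    p ^ (Nat.card G).factorization p = Nat.card ↥U := by
  haveI : Fact p.Prime := ⟨S.prime⟩
  obtain ⟨k, hk⟩ := IsPGroup.iff_card.1 S.isPGroup
  let UB := U.subgroupOf P.B
  haveI : UB.Normal := ⟨fun u hu g => by
    simpa [UB, Subgroup.mem_subgroupOf] using S.normal g.1 g.2 u.1 (Subgroup.mem_subgroupOf.1 hu)⟩
  let f : ↥(P.B ⊓ P.N) →* ↥P.B ⧸ UB :=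
    (QuotientGroup.mk' UB).comp (Subgroup.inclusion inf_le_left)
  have hf : Function.Surjective f := by
    intro x
    induction x using QuotientGroup.induction_on with
    | _ y =>
      obtain ⟨u, hu, h, hh, e⟩ := S.decomp y.1 y.2
      refine ⟨⟨h, hh⟩, QuotientGroup.eq.2 ?_⟩
      rw [Subgroup.mem_subgroupOf, Subgroup.coe_mul, Subgroup.coe_inv, Subgroup.coe_inclusion, e]
      have := S.normal h⁻¹ (inv_mem hh.1) u hu
      simpa [mul_assoc] using this
  have h1 : Nat.card (↥P.B ⧸ UB) ∣ Nat.card ↥(P.B ⊓ P.N) := Subgroup.card_dvd_of_surjective f hf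
  have h2 : Nat.card G = Nat.card (Pt P) * (Nat.card (↥P.B ⧸ UB) * Nat.card ↥U) := by
    rw [← Nat.card_congr (Subgroup.subgroupOfEquivOfLe S.le).toEquiv,
      ← Subgroup.card_eq_card_quotient_mul_card_subgroup, ← Subgroup.card_eq_card_quotient_mul_card_subgroup]
  have h3 : ¬ p ∣ Nat.card (↥P.B ⧸ UB) := fun h => S.coprime (h.trans h1)
  rw [h2, Nat.factorization_mul Nat.card_pos.ne' (mul_pos Nat.card_pos Nat.card_pos).ne',
    Nat.factorization_mul Nat.card_pos.ne' Nat.card_pos.ne', Finsupp.add_apply, Finsupp.add_apply,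
    Nat.factorization_eq_zero_of_not_dvd (not_dvd_index_B S), Nat.factorization_eq_zero_of_not_dvd h3, hk,
    Nat.Prime.factorization_pow S.prime]
  simp

theorem deg_st (S : Split P U p) (ho : Opp P U) : deg (st P) = Nat.card ↥U := by
  rw [deg, st_one S ho, Complex.natCast_re, Nat.floor_natCast]

theorem st_eq_zero (S : Split P U p) (ho : Opp P U) {g : G} (hg : p ∣ orderOf g) : st P g = 0 := by
  haveI := Fintype.ofFinite G
  refine eq_zero_of_defect_zero (isIrr_st S ho) S.prime (n := (Nat.card G).factorization p)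
    (Nat.ordProj_dvd _ _) (fun h => ?_) ?_ hg
  · have := (S.prime.pow_dvd_iff_le_factorization Nat.card_pos.ne').1 h
    omega
  · rw [deg_st S ho, factorization_eq S]

theorem card_p_elements (S : Split P U p) (ho : Opp P U)
    (hR : ∀ K : Finset G, K ⊆ gens P → RadNormal P U (K : Set G)) :
    Nat.card {g : G // ∃ k : ℕ, orderOf g = p ^ k} = Nat.card ↥U * Nat.card ↥U := by
  obtain ⟨n, hn, htop⟩ := exists_top (P := P) coe_gens_subset
  have hc := card_topPts S coe_gens_subset hn htop
  rw [rad_eq_bot S ho hn htop, Subgroup.card_bot, mul_one] at hc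
  rw [← hc]
  conv_rhs => arg 1; rw [hc]
  rw [← card_uni S coe_gens_subset hR]
  refine Nat.card_congr ?_
  exact { toFun := fun g => ⟨g.1, mem_parabolic_gens g.1, g.2⟩
          invFun := fun g => ⟨g.1, g.2.2⟩ }

end Cfsg.Lib.Steinberg
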