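import Cfsg.Agent.Steinberg.Phi

/-! Top cells, the radicals, and the number of p-elements of a parabolic subgroup. -/

set_option autoImplicit false

namespace Cfsg.Lib.Steinberg

open Cfsg.Lib.BN
open scoped Pointwise

variable {G : Type*} [Group G] [Finite G] {P : Cfsg.BNPair G} {U : Subgroup G} {p : ℕ}

theorem exists_top {J : Set G} (hJ : J ⊆ P.S) : ∃ n ∈ Subgroup.closure J, Top P J n := by
  obtain ⟨n, hmax⟩ := Finite.exists_max fun v : ↥(Subgroup.closure J) => len P (v : G)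
  refine ⟨n, n.2, fun s hs => lt_of_le_of_ne ?_ (len_mul_right_ne (hJ hs) (mem_N_of_mem hJ n.2))⟩
  exact hmax ⟨_, mul_mem n.2 (Subgroup.subset_closure hs)⟩

/-- The radical attached to a top element. -/
def rad (P : Cfsg.BNPair G) (U : Subgroup G) (n : G) : Subgroup G := U ⊓ P.B.map (MulAut.conj n).toMonoidHom

theorem mem_rad {n u : G} : u ∈ rad P U n ↔ u ∈ U ∧ n⁻¹ * u * n ∈ P.B := by
  rw [rad, Subgroup.mem_inf, Subgroup.mem_map_equiv]
  simp [MulAut.conj_symm_apply]

/-- `U ∩ n B n⁻¹` is normalised by `U` for every top element `n` of `W_J`. -/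
def RadNormal (P : Cfsg.BNPair G) (U : Subgroup G) (J : Set G) : Prop :=
  ∀ n ∈ Subgroup.closure J, Top P J n → ∀ u ∈ rad P U n, ∀ a ∈ U, a * u * a⁻¹ ∈ rad P U n

theorem Split.mem_B_of (S : Split P U p) {u : G} (hu : u ∈ U) : u ∈ P.B := S.le hu

theorem Split.cell_decomp (S : Split P U p) {n : G} (hn : n ∈ P.N) {y : G} (hy : y ∈ dc P n) :
    ∃ a ∈ U, (y : Pt P) = ((a * n : G) : Pt P) := by
  obtain ⟨a, ha, b, hb, rfl⟩ := mem_dc.1 hy
  obtain ⟨u, hu, h, hh, rfl⟩ := S.decomp a ha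
  refine ⟨u, hu, ?_⟩
  rw [mk_eq_mk]
  have h1 := (conj_mem_inf (inv_mem hn) hh).1
  rw [inv_inv] at h1
  have e : (u * h * n * b)⁻¹ * (u * n) = b⁻¹ * (n⁻¹ * h * n)⁻¹ := by group
  rw [e]
  exact mul_mem (inv_mem hb) (inv_mem h1)

/-- An element of `B ∩ n B n⁻¹`, `n` top, fixes the whole apartment of `J`. -/
theorem top_fix {J : Set G} (hJ : J ⊆ P.S) {n m g : G} (hn : n ∈ Subgroup.closure J) (htop : Top P J n)
    (hm : m ∈ Subgroup.closure J) (hg : g ∈ P.B) (h : n⁻¹ * g * n ∈ P.B) : m⁻¹ * g * m ∈ P.B := by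
  have hnN := mem_N_of_mem hJ hn
  have hmN := mem_N_of_mem hJ hm
  refine fix_prefix hmN (mul_mem (inv_mem hmN) hnN) ?_ hg (by rwa [mul_inv_cancel_left])
  rw [mul_inv_cancel_left]
  have := len_mul_of_top hJ hnN htop (mul_mem (inv_mem hn) hm)
  rw [mul_inv_cancel_left, ← len_inv (mul_mem (inv_mem hnN) hmN), mul_inv_rev, inv_inv] at this
  omega

theorem fix_all (S : Split P U p) {J : Set G} (hJ : J ⊆ P.S) (hR : RadNormal P U J) {n : G}
    (hn : n ∈ Subgroup.closure J) (htop : Top P J n) {u : G} (hu : u ∈ rad P U n) {q : G}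
    (hq : q ∈ P.parabolic J) : q⁻¹ * u * q ∈ P.B := by
  obtain ⟨m, hm, hqm⟩ := (parabolic_mem_iff P hJ).1 hq
  obtain ⟨a, ha, e⟩ := S.cell_decomp (mem_N_of_mem hJ hm) hqm
  have h1 : u • (q : Pt P) = (q : Pt P) := by
    rw [e, smul_eq_self_iff]
    have h2 := hR n hn htop u hu a⁻¹ (inv_mem ha)
    rw [inv_inv, mem_rad] at h2
    have := top_fix hJ hn htop hm (S.le h2.1) h2.2
    convert this using 1
    group
  exact smul_eq_self_iff.1 h1

theorem Split.mem_U_of (S : Split P U p) {b : G} (hb : b ∈ P.B) (hp : ∃ k, orderOf b = p ^ k) : b ∈ U := by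
  obtain ⟨k, hk⟩ := hp
  let UB := U.subgroupOf P.B
  haveI : UB.Normal := ⟨fun u hu g => by
    simpa [UB, Subgroup.mem_subgroupOf] using S.normal g.1 g.2 u.1 (Subgroup.mem_subgroupOf.1 hu)⟩
  let f : ↥(P.B ⊓ P.N) →* ↥P.B ⧸ UB :=
    (QuotientGroup.mk' UB).comp (Subgroup.inclusion inf_le_left)
  have hf : Function.Surjective f := by
    intro x
    induction x using QuotientGroup.induction_on with
    | _ y =>
      obtain ⟨u, hu, h, hh, e⟩ := S.decomp y.1 y.2
      refine ⟨⟨h, hh⟩, QuotientGroup.eq.2 ?_⟩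
      rw [Subgroup.mem_subgroupOf, Subgroup.coe_mul, Subgroup.coe_inv, Subgroup.coe_inclusion, e]
      have := S.normal h⁻¹ (inv_mem hh.1) u hu
      simpa [mul_assoc] using this
  have h1 : orderOf (QuotientGroup.mk' UB ⟨b, hb⟩) ∣ p ^ k := by
    rw [← hk, ← Subgroup.orderOf_mk b hb]
    exact orderOf_map_dvd _ _
  have h2 : orderOf (QuotientGroup.mk' UB ⟨b, hb⟩) ∣ Nat.card ↥(P.B ⊓ P.N) :=
    (orderOf_dvd_natCard _).trans (Subgroup.card_dvd_of_surjective f hf)
  have h3 := Nat.eq_one_of_dvd_coprimes (((S.prime.coprime_iff_not_dvd).2 S.coprime).pow_left k) h1 h2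
  rw [orderOf_eq_one_iff, QuotientGroup.mk'_apply, QuotientGroup.eq_one_iff] at h3
  exact Subgroup.mem_subgroupOf.1 h3

theorem exists_pow_of_mem (S : Split P U p) {u : G} (hu : u ∈ U) : ∃ k, orderOf u = p ^ k := by
  haveI : Fact p.Prime := ⟨S.prime⟩
  obtain ⟨k, hk⟩ := (IsPGroup.iff_orderOf.1 S.isPGroup) ⟨u, hu⟩
  exact ⟨k, by rwa [Subgroup.orderOf_mk] at hk⟩

theorem orderOf_conj' (q u : G) : orderOf (q⁻¹ * u * q) = orderOf u := by
  have := orderOf_injective (MulAut.conj q⁻¹).toMonoidHom (MulAut.conj q⁻¹).injective u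
  simpa using this

theorem rad_conj (S : Split P U p) {J : Set G} (hJ : J ⊆ P.S) (hR : RadNormal P U J) {n : G}
    (hn : n ∈ Subgroup.closure J) (htop : Top P J n) {u : G} (hu : u ∈ rad P U n) {q : G}
    (hq : q ∈ P.parabolic J) : q⁻¹ * u * q ∈ rad P U n := by
  have h1 := fix_all S hJ hR hn htop hu hq
  obtain ⟨k, hk⟩ := exists_pow_of_mem S (mem_rad.1 hu).1
  refine mem_rad.2 ⟨S.mem_U_of h1 ⟨k, by rw [orderOf_conj']; exact hk⟩, ?_⟩
  have hqn : q * n ∈ P.parabolic J := mul_mem hq (Subgroup.mem_sup_right hn)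
  have h2 := fix_all S hJ hR hn htop hu hqn
  convert h2 using 1
  group

theorem topPts_eq (S : Split P U p) {J : Set G} (hJ : J ⊆ P.S) {n : G}
    (hn : n ∈ Subgroup.closure J) (htop : Top P J n) :
    TopPts P J = Set.range fun a : ↥U => ((a.1 * n : G) : Pt P) := by
  have hnN := mem_N_of_mem hJ hn
  ext x
  constructor
  · rintro ⟨hx, ht⟩
    obtain ⟨m, hm, hc, hxm⟩ := exists_cell_mem hJ hx
    have hmn : Cong P m n := top_unique hJ hm hn (top_congr hJ (cell_mem x) hc ht) htop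
    obtain ⟨a, ha, e⟩ := S.cell_decomp hnN (dc_cong hmn hxm)
    exact ⟨⟨a, ha⟩, (e.symm.trans (QuotientGroup.out_eq' x) : ((a * n : G) : Pt P) = x)⟩
  · rintro ⟨a, rfl⟩
    refine ⟨out_mem_parabolic_iff.2 (mul_mem (Subgroup.mem_sup_left (S.le a.2)) (Subgroup.mem_sup_right hn)), ?_⟩
    exact top_congr hJ hnN (cong_cell hnN (mem_dc.2 ⟨a.1, S.le a.2, 1, one_mem _, by group⟩)).symm htop

theorem card_topPts (S : Split P U p) {J : Set G} (hJ : J ⊆ P.S) {n : G}
    (hn : n ∈ Subgroup.closure J) (htop : Top P J n) :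
    Nat.card ↥(TopPts P J) * Nat.card ↥(rad P U n) = Nat.card ↥U := by
  have e1 : TopPts P J = MulAction.orbit ↥U ((n : G) : Pt P) := by
    rw [topPts_eq S hJ hn htop]
    ext x
    simp only [Set.mem_range, MulAction.mem_orbit_iff]
    rfl
  have e2 : MulAction.stabilizer ↥U ((n : G) : Pt P) = (rad P U n).subgroupOf U := by
    ext u
    rw [MulAction.mem_stabilizer_iff]
    change (u : G) • ((n : G) : Pt P) = _ ↔ _
    rw [smul_eq_self_iff, Subgroup.mem_subgroupOf, mem_rad]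
    exact ⟨fun h => ⟨u.2, h⟩, fun h => h.2⟩
  rw [e1, Nat.card_congr (MulAction.orbitEquivQuotientStabilizer ↥U ((n : G) : Pt P)), e2,
    ← Nat.card_congr (Subgroup.subgroupOfEquivOfLe (show rad P U n ≤ U from inf_le_left)).toEquiv,
    ← Subgroup.card_eq_card_quotient_mul_card_subgroup]

theorem phi_U (S : Split P U p) {J : Finset G} (hJ : (J : Set G) ⊆ P.S) (hR : RadNormal P U (J : Set G))
    {n : G} (hn : n ∈ Subgroup.closure (J : Set G)) (htop : Top P (J : Set G) n) {u : G} (hu : u ∈ U) :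
    (u ∈ rad P U n → phi P J u = Nat.card ↥(TopPts P (J : Set G))) ∧ (u ∉ rad P U n → phi P J u = 0) := by
  rw [phi_eq hJ (S.le hu)]
  constructor
  · intro hr
    congr 1
    refine Nat.card_congr (Equiv.setCongr ?_)
    ext x
    refine ⟨fun h => h.1, fun hx => ⟨hx, ?_⟩⟩
    rw [← QuotientGroup.out_eq' x, smul_eq_self_iff]
    exact fix_all S hJ hR hn htop hr hx.1
  · intro hr
    have : IsEmpty ↥{x ∈ TopPts P (J : Set G) | u • x = x} := by
      refine ⟨fun x => hr ?_⟩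
      obtain ⟨x, hx, hux⟩ := x
      rw [topPts_eq S hJ hn htop] at hx
      obtain ⟨a, rfl⟩ := hx
      have h1 : a.1⁻¹ * u * a.1 ∈ rad P U n := by
        refine mem_rad.2 ⟨mul_mem (mul_mem (inv_mem a.2) hu) a.2, ?_⟩
        convert smul_eq_self_iff.1 hux using 1
        group
      have := hR n hn htop _ h1 a.1 a.2
      convert this using 1
      group
    simp

theorem eq_one_of_fixed_by_U (S : Split P U p) {y : G}
    (h : ∀ u ∈ U, y⁻¹ * u * y ∈ P.B) : (y : Pt P) = ((1 : G) : Pt P) := by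
  obtain ⟨n, hn, hy⟩ := bruhat P y
  obtain ⟨a, ha, e⟩ := S.cell_decomp hn hy
  have hU : ∀ u ∈ U, n⁻¹ * u * n ∈ P.B := by
    intro u hu
    have h1 : (a * u * a⁻¹) • ((a * n : G) : Pt P) = ((a * n : G) : Pt P) := by
      rw [← e]; exact smul_eq_self_iff.2 (h _ (mul_mem (mul_mem ha hu) (inv_mem ha)))
    convert smul_eq_self_iff.1 h1 using 1
    group
  have hB : ∀ b ∈ P.B, n⁻¹ * b * n ∈ P.B := by
    intro b hb
    obtain ⟨u, hu, k, hk, rfl⟩ := S.decomp b hb
    have h2 := (conj_mem_inf (inv_mem hn) hk).1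
    rw [inv_inv] at h2
    have := mul_mem (hU u hu) h2
    convert this using 1
    group
  obtain ⟨l, hl, hlen, hc⟩ := exists_reduced hn
  cases l with
  | nil =>
    have hnB : n ∈ P.B := (len_eq_zero hn).1 (by simpa using hlen.symm)
    rw [e, mk_eq_mk]
    simpa using mul_mem (inv_mem hnB) (inv_mem (S.le ha))
  | cons s t =>
    exfalso
    rw [isWord_cons] at hl
    have hs := hl.1
    have hsN := P.subset hs
    rw [List.prod_cons] at hc
    have hs1 : ∀ b ∈ P.B, s⁻¹ * b * s ∈ P.B := by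
      intro b hb
      refine fix_prefix hsN hl.2.prod_mem ?_ hb (conj_mem_of_cong hc.symm (hB b hb))
      have h1 : len P s ≤ 1 := len_le (l := [s]) (isWord_cons.2 ⟨hs, isWord_nil⟩) (by simp [Cong.refl])
      have h2 := len_le hl.2 (Cong.refl (P := P) t.prod)
      have h3 := len_mul_le hsN hl.2.prod_mem
      have h4 := len_congr (mul_mem hsN hl.2.prod_mem) hc
      simp only [List.length_cons] at hlen
      omega
    refine P.conj_ne s hs (Set.Subset.antisymm ?_ ?_)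
    · rintro _ ⟨b, hb, rfl⟩
      have := mul_mem (P.sq_mem s hs) (hs1 b hb)
      show s * b * s ∈ P.B
      convert this using 1
      group
    · intro x hx
      refine ⟨(s⁻¹ * x * s) * (s * s)⁻¹, mul_mem (hs1 x hx) (inv_mem (P.sq_mem s hs)), ?_⟩
      group

theorem exists_conj_mem_U (S : Split P U p) {J : Set G} {u : G}
    (hu : u ∈ P.parabolic J) (hp : ∃ k, orderOf u = p ^ k) :
    ∃ q ∈ P.parabolic J, q⁻¹ * u * q ∈ U := by
  haveI : Fact p.Prime := ⟨S.prime⟩
  set Q := P.parabolic J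
  have hBQ : P.B ≤ Q := le_sup_left
  let X := ↥Q ⧸ P.B.subgroupOf Q
  let U' := U.subgroupOf Q
  have hU' : IsPGroup p ↥U' :=
    S.isPGroup.of_equiv (Subgroup.subgroupOfEquivOfLe (S.le.trans hBQ)).symm
  have hfix : MulAction.fixedPoints ↥U' X = {((1 : ↥Q) : X)} := by
    ext x
    induction x using QuotientGroup.induction_on with
    | _ y =>
      rw [MulAction.mem_fixedPoints, Set.mem_singleton_iff]
      constructor
      · intro h
        have h1 : (y.1 : Pt P) = ((1 : G) : Pt P) := eq_one_of_fixed_by_U S fun v hv => by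
          have h2 := h ⟨⟨v, hBQ (S.le hv)⟩, hv⟩
          change (((⟨v, hBQ (S.le hv)⟩ * y : ↥Q)) : X) = (y : X) at h2
          rw [QuotientGroup.eq, Subgroup.mem_subgroupOf,
            ← Subgroup.inv_mem_iff] at h2
          simpa [mul_assoc] using h2
        exact QuotientGroup.eq.2 (Subgroup.mem_subgroupOf.2 (mk_eq_mk.1 h1))
      · intro h v
        rw [h]
        change (((v.1 * 1 : ↥Q)) : X) = ((1 : ↥Q) : X)
        rw [QuotientGroup.eq, Subgroup.mem_subgroupOf]
        simpa using S.le v.2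
  have hcard : ¬ p ∣ Nat.card X := by
    intro hd
    have h1 := hU'.card_modEq_card_fixedPoints X
    rw [hfix, Nat.card_coe_set_eq {((1 : ↥Q) : X)}, Set.ncard_singleton] at h1
    unfold Nat.ModEq at h1
    rw [Nat.mod_eq_zero_of_dvd hd, Nat.one_mod_eq_one.2 S.prime.ne_one] at h1
    omega
  let Z := Subgroup.zpowers (⟨u, hu⟩ : ↥Q)
  have hZ : IsPGroup p ↥Z := by
    obtain ⟨k, hk⟩ := hp
    exact IsPGroup.of_card (n := k) (by rw [Nat.card_zpowers, Subgroup.orderOf_mk, hk])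
  obtain ⟨x, hx⟩ := hZ.nonempty_fixed_point_of_prime_not_dvd_card X hcard
  induction x using QuotientGroup.induction_on with
  | _ y =>
    have h2 := hx ⟨⟨u, hu⟩, Subgroup.mem_zpowers _⟩
    change (((⟨u, hu⟩ * y : ↥Q)) : X) = (y : X) at h2
    rw [QuotientGroup.eq, Subgroup.mem_subgroupOf, ← Subgroup.inv_mem_iff] at h2
    refine ⟨y.1, y.2, S.mem_U_of (by simpa [mul_assoc] using h2) ?_⟩
    obtain ⟨k, hk⟩ := hp
    exact ⟨k, by rw [orderOf_conj']; exact hk⟩

theorem phi_conj {J : Finset G} {q : G} (hq : q ∈ P.parabolic (J : Set G)) (g : G) :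
    phi P J (q * g * q⁻¹) = phi P J g := by
  refine Finset.sum_congr rfl fun K _ => ?_
  congr 2
  refine Nat.card_congr ((MulAction.toPerm q⁻¹).subtypeEquiv fun c => ?_)
  simp only [FixK, Set.mem_setOf_eq, MulAction.toPerm_apply]
  refine and_congr ?_ ⟨?_, ?_⟩
  · rw [eq_inv_smul_iff, ← mul_smul, ← mul_smul, mul_assoc]
  · rintro ⟨r, hr, rfl⟩
    exact ⟨q⁻¹ * r, mul_mem (inv_mem hq) hr, (MulAction.Quotient.smul_mk (P.parabolic (K : Set G)) q⁻¹ r).symm⟩
  · rintro ⟨r, hr, e⟩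
    refine ⟨q * r, mul_mem hq hr, ?_⟩
    rw [show ((q * r : G) : G ⧸ P.parabolic (K : Set G)) = q • (r : G ⧸ P.parabolic (K : Set G)) from
      (MulAction.Quotient.smul_mk (P.parabolic (K : Set G)) q r).symm, e, smul_inv_smul]

/-- The p-elements of a parabolic subgroup. -/
def Uni (P : Cfsg.BNPair G) (p : ℕ) (J : Set G) : Set G :=
  {u | u ∈ P.parabolic J ∧ ∃ k, orderOf u = p ^ k}

theorem sum_phi (S : Split P U p) {J : Finset G} (hJ : (J : Set G) ⊆ P.S) (hR : RadNormal P U (J : Set G))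
    [Fintype ↥(Uni P p (J : Set G))] :
    ∑ u : ↥(Uni P p (J : Set G)), phi P J (u : G) = Nat.card ↥U := by
  classical
  obtain ⟨n, hn, htop⟩ := exists_top (P := P) hJ
  have hsub : ∀ {u}, u ∈ rad P U n → u ∈ Uni P p (J : Set G) := fun hu =>
    ⟨Subgroup.mem_sup_left (S.le (mem_rad.1 hu).1), exists_pow_of_mem S (mem_rad.1 hu).1⟩
  have hval : ∀ u : ↥(Uni P p (J : Set G)),
      phi P J (u : G) = if (u : G) ∈ rad P U n then (Nat.card ↥(TopPts P (J : Set G)) : ℤ) else 0 := by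
    rintro ⟨u, hu, hp⟩
    obtain ⟨q, hq, hv⟩ := exists_conj_mem_U S hu hp
    have e : u = q * (q⁻¹ * u * q) * q⁻¹ := by group
    have h1 := phi_U S hJ hR hn htop hv
    show phi P J u = _
    refine ((congrArg (phi P J) e).trans (phi_conj hq _)).trans ?_
    by_cases hr : q⁻¹ * u * q ∈ rad P U n
    · rw [h1.1 hr, if_pos]
      have := rad_conj S hJ hR hn htop hr (inv_mem hq)
      rw [inv_inv, ← e] at this
      exact this
    · rw [h1.2 hr, if_neg]
      intro hr'
      change u ∈ rad P U n at hr'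
      exact hr (rad_conj S hJ hR hn htop hr' hq)
  rw [Finset.sum_congr rfl (fun u _ => hval u), ← Finset.sum_filter, Finset.sum_const, nsmul_eq_mul,
    ← card_topPts S hJ hn htop, Nat.cast_mul, mul_comm (Nat.card ↥(TopPts P (J : Set G)) : ℤ)]
  congr 2
  rw [← Fintype.card_subtype, ← Nat.card_eq_fintype_card]
  exact Nat.card_congr
    { toFun := fun u => ⟨u.1.1, u.2⟩
      invFun := fun u => ⟨⟨u.1, hsub u.2⟩, u.2⟩ }

theorem uni_fix_card {J K : Set G} (hKJ : K ⊆ J) [Fintype ↥(Uni P p J)] :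
    ∑ u : ↥(Uni P p J), Nat.card ↥(FixK P J K (u : G)) =
      Nat.card ↥(FixK P J K 1) * Nat.card ↥(Uni P p K) := by
  classical
  haveI := Fintype.ofFinite ↥(FixK P J K 1)
  rw [← Nat.card_sigma, Nat.card_congr
    (show (Σ u : ↥(Uni P p J), ↥(FixK P J K (u : G))) ≃
        (Σ c : ↥(FixK P J K 1), {u : ↥(Uni P p J) // (u : G) • c.1 = c.1}) from
      { toFun := fun a => ⟨⟨a.2.1, one_smul _ _, a.2.2.2⟩, a.1, a.2.2.1⟩
        invFun := fun a => ⟨a.2.1, a.1.1, a.2.2, a.1.2.2⟩ }), Nat.card_sigma]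
  rw [Finset.sum_congr rfl (g := fun _ => Nat.card ↥(Uni P p K))]
  · rw [Finset.sum_const, Finset.card_univ, Nat.card_eq_fintype_card (α := ↥(FixK P J K 1)), smul_eq_mul]
  · rintro ⟨c, -, q, hq, rfl⟩ -
    refine Nat.card_eq_of_bijective
      (fun u : {u : ↥(Uni P p J) // (u : G) • (q : G ⧸ P.parabolic K) = (q : G ⧸ P.parabolic K)} =>
        (⟨q⁻¹ * u.1.1 * q, ?_, ?_⟩ : ↥(Uni P p K))) ⟨?_, ?_⟩
    · have h := u.2
      rw [MulAction.Quotient.smul_mk, QuotientGroup.eq, ← Subgroup.inv_mem_iff] at h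
      simpa [mul_assoc] using h
    · obtain ⟨k, hk⟩ := u.1.2.2
      exact ⟨k, by rw [orderOf_conj']; exact hk⟩
    · intro u v e
      have := congrArg Subtype.val e
      simp only at this
      exact Subtype.ext (Subtype.ext (mul_left_cancel (mul_right_cancel this)))
    · rintro ⟨v, hv, k, hk⟩
      refine ⟨⟨⟨q * v * q⁻¹, mul_mem (mul_mem hq (parabolic_mono hKJ hv)) (inv_mem hq), k, ?_⟩, ?_⟩, ?_⟩
      · have := orderOf_conj' q⁻¹ v
        rw [inv_inv] at this
        rw [this, hk]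
      · show (q * v * q⁻¹) • (q : G ⧸ P.parabolic K) = _
        rw [MulAction.Quotient.smul_mk, QuotientGroup.eq, smul_eq_mul]
        simpa [mul_assoc] using inv_mem hv
      · refine Subtype.ext ?_
        show q⁻¹ * (q * v * q⁻¹) * q = v
        group

theorem card_fixK_self (J : Set G) : Nat.card ↥(FixK P J J 1) = 1 := by
  rw [Nat.card_eq_one_iff_unique]
  refine ⟨⟨?_⟩, ⟨⟨((1 : G) : G ⧸ P.parabolic J), one_smul _ _, 1, one_mem _, rfl⟩⟩⟩
  rintro ⟨c, -, q, hq, rfl⟩ ⟨c', -, q', hq', rfl⟩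
  exact Subtype.ext (QuotientGroup.eq.2 (mul_mem (inv_mem hq) hq'))

/-- The number of p-elements in a parabolic subgroup. -/
theorem card_uni (S : Split P U p) : ∀ {J : Finset G}, (J : Set G) ⊆ P.S →
    (∀ K : Finset G, K ⊆ J → RadNormal P U (K : Set G)) →
    Nat.card ↥(Uni P p (J : Set G)) = Nat.card ↥U * Nat.card ↥(TopPts P (J : Set G)) := by
  intro J
  induction J using Finset.strongInduction with
  | _ J ih =>
    intro hJ hR
    classical
    haveI := Fintype.ofFinite ↥(Uni P p (J : Set G))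
    have h1 := sum_phi S hJ (hR J subset_rfl)
    simp only [phi] at h1
    rw [Finset.sum_comm] at h1
    simp only [← Finset.mul_sum, ← Nat.cast_sum] at h1
    have h2 := congrArg (fun z : ℤ => (Nat.card ↥U : ℤ) * z) (alt_identity (P := P) hJ)
    simp only [mul_one, Finset.mul_sum] at h2
    have hJm : J ∈ J.powerset := Finset.mem_powerset_self J
    rw [← Finset.add_sum_erase _ _ hJm] at h1 h2
    have e : ∀ K ∈ J.powerset.erase J,
        (-1 : ℤ) ^ K.card * ((∑ u : ↥(Uni P p (J : Set G)), Nat.card ↥(FixK P (J : Set G) (K : Set G) (u : G)) : ℕ) : ℤ) =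
        (Nat.card ↥U : ℤ) * ((-1 : ℤ) ^ K.card *
          ((Nat.card ↥(FixK P (J : Set G) (K : Set G) 1) : ℤ) * Nat.card ↥(TopPts P (K : Set G)))) := by
      intro K hK
      obtain ⟨hne, hK'⟩ := Finset.mem_erase.1 hK
      rw [Finset.mem_powerset] at hK'
      rw [uni_fix_card (Finset.coe_subset.2 hK'), ih K (Finset.ssubset_iff_subset_ne.2 ⟨hK', hne⟩)
        ((Finset.coe_subset.2 hK').trans hJ) fun L hL => hR L (hL.trans hK')]
      push_cast
      ring
    rw [Finset.sum_congr rfl e, uni_fix_card subset_rfl, card_fixK_self, one_mul] at h1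
    rw [card_fixK_self] at h2
    have h3 : (-1 : ℤ) ^ J.card * (Nat.card ↥(Uni P p (J : Set G)) : ℤ) =
        (Nat.card ↥U : ℤ) * ((-1 : ℤ) ^ J.card * Nat.card ↥(TopPts P (J : Set G))) := by
      push_cast at h2 ⊢
      linarith
    rw [mul_left_comm (Nat.card ↥U : ℤ), mul_right_inj' (pow_ne_zero _ (by norm_num))] at h3
    exact_mod_cast h3

end Cfsg.Lib.Steinberg
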