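import Cfsg.Agent.BN.Extra

/-! Length additivity for parabolic subgroups of the Weyl group of a (B,N)-pair. -/

set_option autoImplicit false

namespace Cfsg.Lib.Steinberg

open Cfsg.Lib.BN

variable {G : Type*} [Group G] {P : Cfsg.BNPair G}

/-- `n` goes up under every generator in `J`, from the right. -/
def Low (P : Cfsg.BNPair G) (J : Set G) (n : G) : Prop := ∀ s ∈ J, len P n < len P (n * s)

/-- `n` goes down under every generator in `J`, from the right. -/
def Top (P : Cfsg.BNPair G) (J : Set G) (n : G) : Prop := ∀ s ∈ J, len P (n * s) < len P n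

theorem closure_le_N {J : Set G} (hJ : J ⊆ P.S) : Subgroup.closure J ≤ P.N :=
  (Subgroup.closure_le _).2 (hJ.trans P.subset)

theorem mem_N_of_mem {J : Set G} (hJ : J ⊆ P.S) {v : G} (hv : v ∈ Subgroup.closure J) : v ∈ P.N :=
  closure_le_N hJ hv

theorem cong_mul_left_cancel {c n m : G} (h : Cong P (c * n) (c * m)) : Cong P n m := by
  have := h.mul_left c⁻¹
  simpa using this

theorem len_mul_le {n v : G} (hn : n ∈ P.N) (hv : v ∈ P.N) : len P (n * v) ≤ len P n + len P v := by
  obtain ⟨l, hl, hlen, hc⟩ := exists_reduced hn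
  obtain ⟨m, hm, hmlen, hmc⟩ := exists_reduced hv
  rw [← hlen, ← hmlen, ← List.length_append]
  refine len_le (isWord_append.2 ⟨hl, hm⟩) ?_
  rw [List.prod_append]
  exact (hmc.mul_left _).trans (hc.mul_right hv)

theorem le_len_mul {n v : G} (hn : n ∈ P.N) (hv : v ∈ P.N) : len P n ≤ len P (n * v) + len P v := by
  have := len_mul_le (mul_mem hn hv) (inv_mem hv)
  rwa [mul_inv_cancel_right, len_inv hv] at this

theorem exchange_right {s : G} (hs : s ∈ P.S) {l : List G} (hl : IsWord P l)
    (hlt : len P (l.prod * s) < len P l.prod) :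
    ∃ i < l.length, Cong P (l.prod * s) (l.eraseIdx i).prod := by
  have hN := hl.prod_mem
  have hsN := P.subset hs
  have hrev : IsWord P l.reverse := fun a ha => hl a (List.mem_reverse.1 ha)
  have h1 : Cong P (s * l.reverse.prod) (l.prod * s)⁻¹ := by
    rw [mul_inv_rev]
    exact ((cong_inv_self hs).symm.mul_right hrev.prod_mem).trans
      (((cong_inv_prod hl).symm).mul_left s⁻¹)
  have h2 : len P l.reverse.prod = len P l.prod :=
    (len_congr hrev.prod_mem (cong_inv_prod hl).symm).trans (len_inv hN)
  have h3 : len P (s * l.reverse.prod) = len P (l.prod * s) :=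
    (len_congr (mul_mem hsN hrev.prod_mem) h1).trans (len_inv (mul_mem hN hsN))
  obtain ⟨i, hi, hc⟩ := exchange hs hrev (by rw [h2, h3]; exact hlt)
  rw [List.length_reverse] at hi
  refine ⟨l.length - 1 - i, by omega, ?_⟩
  have hwe : IsWord P (l.reverse.eraseIdx i) := fun a ha => hrev a (List.mem_of_mem_eraseIdx ha)
  have hc2 := (h1.symm.trans hc).inv (inv_mem (mul_mem hN hsN))
  rw [inv_inv] at hc2
  have h5 := hc2.trans (cong_inv_prod hwe)
  have e : (l.reverse.eraseIdx i).reverse = l.eraseIdx (l.length - 1 - i) := by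
    rw [List.eraseIdx_eq_take_drop_succ, List.eraseIdx_eq_take_drop_succ, List.reverse_append,
      List.drop_reverse, List.take_reverse, List.reverse_reverse, List.reverse_reverse,
      show l.length - (i + 1) = l.length - 1 - i by omega, show l.length - 1 - i + 1 = l.length - i by omega]
  rwa [e] at h5

theorem exists_reduced_J {J : Set G} (hJ : J ⊆ P.S) {v : G} (hv : v ∈ Subgroup.closure J) :
    ∃ l : List G, (∀ x ∈ l, x ∈ J) ∧ l.length = len P v ∧ Cong P l.prod v := by
  obtain ⟨l, hl, hc⟩ := exists_word_of_mem_closure hJ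
    (Subgroup.mem_sup_left (T := P.B ⊓ P.N) hv)
  have hw : IsWord P l := fun x hx => hJ (hl x hx)
  obtain ⟨l', hsub, ⟨hw', hlen⟩, hc'⟩ := exists_reduced_sublist hw
  refine ⟨l', fun x hx => hl x (hsub.subset hx), ?_, hc'.trans hc⟩
  rw [← hlen]
  exact len_congr hw'.prod_mem (hc'.trans hc)

theorem prod_mem_closure {J : Set G} {l : List G} (hl : ∀ x ∈ l, x ∈ J) : l.prod ∈ Subgroup.closure J :=
  list_prod_mem fun x hx => Subgroup.subset_closure (hl x hx)

theorem low_of_le {J : Set G} (hJ : J ⊆ P.S) {m : G} (hm : m ∈ P.N)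
    (h : ∀ v ∈ Subgroup.closure J, len P m ≤ len P (m * v)) {v : G} (hv : v ∈ Subgroup.closure J) :
    len P (m * v) = len P m + len P v := by
  suffices H : ∀ (k : ℕ) (v : G), v ∈ Subgroup.closure J → len P v = k → len P (m * v) = len P m + k from
    H _ v hv rfl
  intro k
  induction k with
  | zero =>
    intro v hv hk
    rw [add_zero]
    have hvN := mem_N_of_mem hJ hv
    refine (len_congr hm ?_).symm
    show m⁻¹ * (m * v) ∈ P.B ⊓ P.N
    rw [inv_mul_cancel_left]
    exact Subgroup.mem_inf.2 ⟨(len_eq_zero hvN).1 hk, hvN⟩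
  | succ k ih =>
    intro v hv hk
    obtain ⟨l, hl, hlen, hc⟩ := exists_reduced_J hJ hv
    rcases List.eq_nil_or_concat l with rfl | ⟨t, s, rfl⟩
    · simp at hlen; omega
    rw [List.concat_eq_append] at hl hlen hc
    have hsJ : s ∈ J := hl s (by simp)
    have htJ : ∀ x ∈ t, x ∈ J := fun x hx => hl x (List.mem_append_left _ hx)
    have hs := hJ hsJ
    have hsN := P.subset hs
    have htw : IsWord P t := fun x hx => hJ (htJ x hx)
    have hvN := mem_N_of_mem hJ hv
    rw [List.prod_append, List.prod_singleton] at hc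
    have htlen : t.length = k := by simp at hlen; omega
    have ht : len P t.prod = k := by
      apply le_antisymm (htlen ▸ len_le htw (Cong.refl _))
      have := len_mul_right_le hs htw.prod_mem
      rw [len_congr (mul_mem htw.prod_mem hsN) hc] at this
      omega
    have h1 := ih t.prod (prod_mem_closure htJ) ht
    have h2 : len P (m * v) = len P (m * t.prod * s) := by
      rw [mul_assoc]
      exact (len_congr (mul_mem hm (mul_mem htw.prod_mem hsN)) (hc.mul_left m)).symm
    have h3 := len_mul_right_le hs (mul_mem hm htw.prod_mem)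
    have h4 := len_mul_right_ne hs (mul_mem hm htw.prod_mem)
    by_contra hne
    have hlt : len P (m * t.prod * s) < len P (m * t.prod) := by omega
    obtain ⟨a, ha, halen, hac⟩ := exists_reduced hm
    have hat : Cong P (a ++ t).prod (m * t.prod) := by
      rw [List.prod_append]; exact hac.mul_right htw.prod_mem
    have haw : IsWord P (a ++ t) := isWord_append.2 ⟨ha, htw⟩
    obtain ⟨i, hi, hic⟩ := exchange_right hs haw (by
      rw [len_congr (mul_mem haw.prod_mem hsN) (hat.mul_right hsN), len_congr haw.prod_mem hat]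
      exact hlt)
    have hic' : Cong P (m * t.prod * s) ((a ++ t).eraseIdx i).prod := ((hat.mul_right hsN).symm).trans hic
    by_cases hia : i < a.length
    · rw [List.eraseIdx_append_of_lt_length hia, List.prod_append] at hic'
      set a' := a.eraseIdx i
      have ha' : IsWord P a' := fun x hx => ha x (List.mem_of_mem_eraseIdx hx)
      have hw : t.prod * s * t.prod⁻¹ ∈ Subgroup.closure J :=
        mul_mem (mul_mem (prod_mem_closure htJ) (Subgroup.subset_closure hsJ)) (inv_mem (prod_mem_closure htJ))
      have hc3 : Cong P (m * (t.prod * s * t.prod⁻¹)) a'.prod := by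
        have := hic'.mul_right (inv_mem htw.prod_mem)
        rwa [mul_inv_cancel_right, show m * t.prod * s * t.prod⁻¹ = m * (t.prod * s * t.prod⁻¹) by group] at this
      have h5 := h _ hw
      rw [len_congr (mul_mem hm (mem_N_of_mem hJ hw)) hc3] at h5
      have h6 := len_le ha' (Cong.refl a'.prod)
      rw [List.length_eraseIdx_of_lt hia] at h6
      omega
    · push Not at hia
      rw [List.eraseIdx_append_of_length_le hia, List.prod_append] at hic'
      have hit : i - a.length < t.length := by simp at hi; omega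
      set t' := t.eraseIdx (i - a.length)
      have ht' : IsWord P t' := fun x hx => htw x (List.mem_of_mem_eraseIdx hx)
      have hc3 : Cong P (t.prod * s) t'.prod := by
        refine cong_mul_left_cancel (c := m) ?_
        rw [← mul_assoc]
        exact hic'.trans (hac.mul_right ht'.prod_mem)
      have h6 := len_le ht' (Cong.refl t'.prod)
      rw [List.length_eraseIdx_of_lt hit] at h6
      have h7 : len P v = len P t'.prod := (len_congr hvN ((hc.symm).trans hc3))
      omega

theorem len_mul_of_low {J : Set G} (hJ : J ⊆ P.S) {n : G} (hn : n ∈ P.N) (hlow : Low P J n)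
    {v : G} (hv : v ∈ Subgroup.closure J) : len P (n * v) = len P n + len P v := by
  classical
  let ks := {k | ∃ w ∈ Subgroup.closure J, len P (n * w) = k}
  have hne : ks.Nonempty := ⟨_, 1, one_mem _, rfl⟩
  obtain ⟨w, hw, hwk⟩ : sInf ks ∈ ks := Nat.sInf_mem hne
  have hwN := mem_N_of_mem hJ hw
  have hadd : ∀ u ∈ Subgroup.closure J, len P (n * w * u) = len P (n * w) + len P u := by
    refine fun u hu => low_of_le hJ (mul_mem hn hwN) (fun u hu => ?_) hu
    rw [hwk, mul_assoc]
    exact Nat.sInf_le ⟨w * u, mul_mem hw hu, rfl⟩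
  obtain ⟨l, hl, hlen, hc⟩ := exists_reduced_J hJ (inv_mem hw)
  have h0 := hadd _ (inv_mem hw)
  rw [mul_inv_cancel_right] at h0
  rcases List.eq_nil_or_concat l with rfl | ⟨t, s, rfl⟩
  · refine low_of_le hJ hn (fun u hu => ?_) hv
    have h1 := hadd _ (mul_mem (inv_mem hw) hu)
    rw [show n * w * (w⁻¹ * u) = n * u by group] at h1
    simp at hlen
    omega
  · exfalso
    rw [List.concat_eq_append] at hl hlen hc
    have hsJ : s ∈ J := hl s (by simp)
    have htJ : ∀ x ∈ t, x ∈ J := fun x hx => hl x (List.mem_append_left _ hx)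
    have hsN := P.subset (hJ hsJ)
    rw [List.prod_append, List.prod_singleton] at hc
    have htN := mem_N_of_mem hJ (prod_mem_closure htJ)
    have hc2 : Cong P (t.prod * (s * s)) (w⁻¹ * s) := by
      rw [← mul_assoc]; exact hc.mul_right hsN
    have hc3 : Cong P t.prod (w⁻¹ * s) :=
      (Cong.symm (by simpa using (cong_mul_self (hJ hsJ)).mul_left t.prod)).trans hc2
    have h2 := hadd _ (mul_mem (inv_mem hw) (Subgroup.subset_closure hsJ))
    rw [show n * w * (w⁻¹ * s) = n * s by group, ← len_congr htN hc3] at h2
    have h3 := len_le (l := t) (fun x hx => hJ (htJ x hx)) (Cong.refl (P := P) t.prod)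
    have h4 := hlow s hsJ
    simp at hlen
    omega

theorem exists_low {J : Set G} (hJ : J ⊆ P.S) {n : G} (hn : n ∈ P.N) :
    ∃ w ∈ Subgroup.closure J, Low P J (n * w) := by
  let ks := {k | ∃ w ∈ Subgroup.closure J, len P (n * w) = k}
  obtain ⟨w, hw, hwk⟩ : sInf ks ∈ ks := Nat.sInf_mem ⟨_, 1, one_mem _, rfl⟩
  refine ⟨w, hw, fun s hs => ?_⟩
  have h1 : len P (n * w) ≤ len P (n * w * s) := by
    rw [hwk, mul_assoc]
    exact Nat.sInf_le ⟨w * s, mul_mem hw (Subgroup.subset_closure hs), rfl⟩
  exact lt_of_le_of_ne h1 (Ne.symm (len_mul_right_ne (hJ hs) (mul_mem hn (mem_N_of_mem hJ hw))))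

theorem low_one {J : Set G} (hJ : J ⊆ P.S) : Low P J 1 := by
  intro s hs
  rw [len_one, one_mul, Nat.pos_iff_ne_zero]
  exact fun h => not_mem_B (hJ hs) ((len_eq_zero (P.subset (hJ hs))).1 h)

theorem len_mul_of_top {J : Set G} (hJ : J ⊆ P.S) {n : G} (hn : n ∈ P.N) (htop : Top P J n)
    {v : G} (hv : v ∈ Subgroup.closure J) : len P (n * v) + len P v = len P n := by
  suffices H : ∀ (k : ℕ) (v : G), v ∈ Subgroup.closure J → len P v = k → len P (n * v) + k = len P n from
    H _ v hv rfl
  intro k
  induction k with
  | zero =>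
    intro v hv hk
    rw [add_zero]
    have hvN := mem_N_of_mem hJ hv
    refine (len_congr hn ?_).symm
    show n⁻¹ * (n * v) ∈ P.B ⊓ P.N
    rw [inv_mul_cancel_left]
    exact Subgroup.mem_inf.2 ⟨(len_eq_zero hvN).1 hk, hvN⟩
  | succ k ih =>
    intro v hv hk
    obtain ⟨l, hl, hlen, hc⟩ := exists_reduced_J hJ hv
    cases l with
    | nil => simp at hlen; omega
    | cons s t =>
      have hsJ : s ∈ J := hl s (by simp)
      have htJ : ∀ x ∈ t, x ∈ J := fun x hx => hl x (List.mem_cons_of_mem _ hx)
      have hs := hJ hsJ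
      have hsN := P.subset hs
      have htw : IsWord P t := fun x hx => hJ (htJ x hx)
      have hvN := mem_N_of_mem hJ hv
      rw [List.prod_cons] at hc
      have htlen : t.length = k := by simp at hlen; omega
      have ht : len P t.prod = k := by
        apply le_antisymm (htlen ▸ len_le htw (Cong.refl _))
        have := len_mul_left_le hs htw.prod_mem
        rw [len_congr (mul_mem hsN htw.prod_mem) hc] at this
        omega
      have h1 := ih t.prod (prod_mem_closure htJ) ht
      have h2 : len P n ≤ len P (n * v) + len P v := le_len_mul hn hvN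
      obtain ⟨a, ha, halen, hac⟩ := exists_reduced (mul_mem hn htw.prod_mem)
      have hrev : IsWord P t.reverse := fun x hx => htw x (List.mem_reverse.1 hx)
      have haw : IsWord P (a ++ t.reverse) := isWord_append.2 ⟨ha, hrev⟩
      have hat : Cong P (a ++ t.reverse).prod n := by
        rw [List.prod_append]
        refine (((cong_inv_prod htw).symm).mul_left a.prod).trans ?_
        have := hac.mul_right (inv_mem htw.prod_mem)
        rwa [mul_inv_cancel_right] at this
      obtain ⟨i, hi, hic⟩ := exchange_right hs haw (by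
        rw [len_congr (mul_mem haw.prod_mem hsN) (hat.mul_right hsN), len_congr haw.prod_mem hat]
        exact htop s hsJ)
      have hic' : Cong P (n * s) ((a ++ t.reverse).eraseIdx i).prod := ((hat.mul_right hsN).symm).trans hic
      by_cases hia : i < a.length
      · rw [List.eraseIdx_append_of_lt_length hia, List.prod_append] at hic'
        set a' := a.eraseIdx i
        have ha' : IsWord P a' := fun x hx => ha x (List.mem_of_mem_eraseIdx hx)
        have hc3 : Cong P (n * v) a'.prod := by
          have h4 := (hic'.trans (((cong_inv_prod htw).symm).mul_left a'.prod)).mul_right htw.prod_mem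
          rw [inv_mul_cancel_right, mul_assoc] at h4
          exact (hc.symm.mul_left n).trans h4
        have h6 := len_le ha' (Cong.refl a'.prod)
        rw [List.length_eraseIdx_of_lt hia, ← len_congr (mul_mem hn hvN) hc3] at h6
        omega
      · exfalso
        push Not at hia
        rw [List.eraseIdx_append_of_length_le hia, List.prod_append] at hic'
        have hit : i - a.length < t.reverse.length := by simp at hi ⊢; omega
        set t' := t.reverse.eraseIdx (i - a.length)
        have ht' : IsWord P t' := fun x hx => hrev x (List.mem_of_mem_eraseIdx hx)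
        have hc3 : Cong P (t.prod⁻¹ * s) t'.prod := by
          refine cong_mul_left_cancel (c := n * t.prod) ?_
          rw [show n * t.prod * (t.prod⁻¹ * s) = n * s by group]
          exact hic'.trans (hac.mul_right ht'.prod_mem)
        have h6 := len_le ht' (Cong.refl t'.prod)
        rw [List.length_eraseIdx_of_lt hit, List.length_reverse,
          ← len_congr (mul_mem (inv_mem htw.prod_mem) hsN) hc3] at h6
        have h7 : len P (s * t.prod) = len P (t.prod⁻¹ * s) := by
          rw [← len_inv (mul_mem hsN htw.prod_mem), mul_inv_rev]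
          exact len_congr (mul_mem (inv_mem htw.prod_mem) (inv_mem hsN)) ((cong_inv_self hs).mul_left t.prod⁻¹)
        rw [len_congr (mul_mem hsN htw.prod_mem) hc] at h7
        omega

theorem top_unique {J : Set G} (hJ : J ⊆ P.S) {n n' : G} (hn : n ∈ Subgroup.closure J)
    (hn' : n' ∈ Subgroup.closure J) (h : Top P J n) (h' : Top P J n') : Cong P n n' := by
  have hnN := mem_N_of_mem hJ hn
  have hn'N := mem_N_of_mem hJ hn'
  have h1 := len_mul_of_top hJ hnN h (mul_mem (inv_mem hn) hn')
  have h2 := len_mul_of_top hJ hn'N h' (mul_mem (inv_mem hn') hn)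
  rw [mul_inv_cancel_left] at h1 h2
  have h3 : len P (n'⁻¹ * n) = len P (n⁻¹ * n') := by
    rw [← len_inv (mul_mem (inv_mem hn'N) hnN), mul_inv_rev, inv_inv]
  have h4 : len P (n⁻¹ * n') = 0 := by omega
  exact Subgroup.mem_inf.2 ⟨(len_eq_zero (mul_mem (inv_mem hnN) hn'N)).1 h4, mul_mem (inv_mem hnN) hn'N⟩

theorem low_congr {J : Set G} (hJ : J ⊆ P.S) {n n' : G} (hn : n ∈ P.N) (hc : Cong P n n') (h : Low P J n) :
    Low P J n' := by
  intro s hs
  rw [← len_congr hn hc, ← len_congr (mul_mem hn (P.subset (hJ hs))) (hc.mul_right (P.subset (hJ hs)))]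
  exact h s hs

theorem top_congr {J : Set G} (hJ : J ⊆ P.S) {n n' : G} (hn : n ∈ P.N) (hc : Cong P n n') (h : Top P J n) :
    Top P J n' := by
  intro s hs
  rw [← len_congr hn hc, ← len_congr (mul_mem hn (P.subset (hJ hs))) (hc.mul_right (P.subset (hJ hs)))]
  exact h s hs

theorem not_low_iff {J : Set G} (hJ : J ⊆ P.S) {n : G} (hn : n ∈ P.N) {s : G} (hs : s ∈ J) :
    ¬ len P n < len P (n * s) ↔ len P (n * s) < len P n := by
  have := len_mul_right_ne (hJ hs) hn
  omega

/-- Uniqueness of the shortest element in a double coset of two parabolic subgroups. -/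
theorem bilow_unique {K L : Set G} (hK : K ⊆ P.S) (hL : L ⊆ P.S) {n n' : G} (hn : n ∈ P.N) (hn' : n' ∈ P.N)
    (h1 : Low P K n⁻¹) (h2 : Low P L n) (h1' : Low P K n'⁻¹) (h2' : Low P L n')
    {a b : G} (ha : a ∈ Subgroup.closure K) (hb : b ∈ Subgroup.closure L)
    (hc : Cong P n' (a * n * b)) : Cong P n n' := by
  suffices H : ∀ (k : ℕ) (a b : G), a ∈ Subgroup.closure K → b ∈ Subgroup.closure L → len P b = k →
      Cong P (a * n) (n' * b) → Cong P n n' by
    refine H _ a b⁻¹ ha (inv_mem hb) rfl ?_
    have := (hc.mul_right (inv_mem (mem_N_of_mem hL hb))).symm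
    rwa [mul_inv_cancel_right] at this
  clear hc ha hb a b
  intro k
  induction k with
  | zero =>
    intro a b ha hb hk hc
    have haN := mem_N_of_mem hK ha
    have hbN := mem_N_of_mem hL hb
    have hb1 : Cong P (n' * b) n' := by
      refine Cong.symm ?_
      show n'⁻¹ * (n' * b) ∈ P.B ⊓ P.N
      rw [inv_mul_cancel_left]
      exact Subgroup.mem_inf.2 ⟨(len_eq_zero hbN).1 hk, hbN⟩
    have hc' : Cong P (a * n) n' := hc.trans hb1
    have h3 := len_mul_of_low hK (inv_mem hn) h1 (inv_mem ha)
    rw [← mul_inv_rev, len_inv (mul_mem haN hn), len_inv hn, len_inv haN] at h3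
    have hc'' : Cong P n (a⁻¹ * n') := by
      have := hc'.mul_left a⁻¹
      rwa [inv_mul_cancel_left] at this
    have h4 := len_mul_of_low hK (inv_mem hn') h1' ha
    have h5 : n'⁻¹ * a = (a⁻¹ * n')⁻¹ := by group
    rw [h5, len_inv (mul_mem (inv_mem haN) hn'), len_inv hn', ← len_congr hn hc''] at h4
    rw [len_congr (mul_mem haN hn) hc'] at h3
    have ha0 : len P a = 0 := by omega
    have haB : a ∈ P.B ⊓ P.N := Subgroup.mem_inf.2 ⟨(len_eq_zero haN).1 ha0, haN⟩
    refine Cong.trans ?_ hc'
    show n⁻¹ * (a * n) ∈ P.B ⊓ P.N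
    have := conj_mem_inf (inv_mem hn) haB
    rw [inv_inv] at this
    rwa [mul_assoc] at this
  | succ k ih =>
    intro a b ha hb hk hc
    have haN := mem_N_of_mem hK ha
    have hbN := mem_N_of_mem hL hb
    obtain ⟨l, hl, hlen, hlc⟩ := exists_reduced_J hL hb
    rcases List.eq_nil_or_concat l with rfl | ⟨t, s, rfl⟩
    · simp at hlen; omega
    rw [List.concat_eq_append] at hl hlen hlc
    rw [List.prod_append, List.prod_singleton] at hlc
    have hsL : s ∈ L := hl s (by simp)
    have htL : ∀ x ∈ t, x ∈ L := fun x hx => hl x (List.mem_append_left _ hx)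
    have hs := hL hsL
    have hsN := P.subset hs
    have htN := mem_N_of_mem hL (prod_mem_closure htL)
    have ht : len P t.prod = k := by
      have h5 := len_mul_right_le hs htN
      rw [len_congr (mul_mem htN hsN) hlc] at h5
      have h6 := len_le (l := t) (fun x hx => hL (htL x hx)) (Cong.refl (P := P) t.prod)
      simp at hlen
      omega
    have hbs : Cong P (b * s) t.prod := (hlc.symm.mul_right hsN).trans
      (by simpa [mul_assoc] using (cong_mul_self hs).mul_left t.prod)
    have hdrop : len P (a * n * s) < len P (a * n) := by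
      have e1 : Cong P (a * n * s) (n' * t.prod) := by
        refine (hc.mul_right hsN).trans ?_
        rw [mul_assoc]
        exact hbs.mul_left n'
      rw [len_congr (mul_mem (mul_mem haN hn) hsN) e1, len_congr (mul_mem haN hn) hc,
        len_mul_of_low hL hn' h2' (prod_mem_closure htL), len_mul_of_low hL hn' h2' hb]
      omega
    obtain ⟨la, hla, halen, hac⟩ := exists_reduced_J hK ha
    obtain ⟨ln, hln, hnlen, hnc⟩ := exists_reduced hn
    have hlaw : IsWord P la := fun x hx => hK (hla x hx)
    have hw : IsWord P (la ++ ln) := isWord_append.2 ⟨hlaw, hln⟩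
    have hwc : Cong P (la ++ ln).prod (a * n) := by
      rw [List.prod_append]; exact (hnc.mul_left _).trans (hac.mul_right hn)
    obtain ⟨i, hi, hic⟩ := exchange_right hs hw (by
      rw [len_congr (mul_mem hw.prod_mem hsN) (hwc.mul_right hsN), len_congr hw.prod_mem hwc]
      exact hdrop)
    have hic' : Cong P (a * n * s) ((la ++ ln).eraseIdx i).prod := ((hwc.mul_right hsN).symm).trans hic
    by_cases hia : i < la.length
    · rw [List.eraseIdx_append_of_lt_length hia, List.prod_append] at hic'
      set la' := la.eraseIdx i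
      have hla' : ∀ x ∈ la', x ∈ K := fun x hx => hla x (List.mem_of_mem_eraseIdx hx)
      refine ih la'.prod t.prod (prod_mem_closure hla') (prod_mem_closure htL) ht ?_
      refine ((hnc.symm.mul_left la'.prod).trans hic'.symm).trans ?_
      refine (hc.mul_right hsN).trans ?_
      rw [mul_assoc]
      exact hbs.mul_left n'
    · exfalso
      push Not at hia
      rw [List.eraseIdx_append_of_length_le hia, List.prod_append] at hic'
      have hit : i - la.length < ln.length := by simp at hi; omega
      set ln' := ln.eraseIdx (i - la.length)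
      have hln' : IsWord P ln' := fun x hx => hln x (List.mem_of_mem_eraseIdx hx)
      have hc3 : Cong P (n * s) ln'.prod := by
        refine cong_mul_left_cancel (c := a) ?_
        rw [← mul_assoc]
        exact hic'.trans (hac.mul_right hln'.prod_mem)
      have h6 := len_le hln' (Cong.refl ln'.prod)
      rw [List.length_eraseIdx_of_lt hit, ← len_congr (mul_mem hn hsN) hc3] at h6
      have := h2 s hsL
      omega

end Cfsg.Lib.Steinberg
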