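import Cfsg.Agent.Steinberg.Vanish
import Cfsg.Agent.Chars.IrrTools

/-!
The alternating sum of a parabolic subgroup as the Steinberg character of its own (B,N)-pair, and as
the average of the Steinberg character over the radical.
-/

set_option autoImplicit false
set_option linter.unusedSectionVars false

namespace Cfsg.Lib.Steinberg

open Cfsg.Lib.BN Cfsg.Lib.Chars
open scoped Pointwise ComplexConjugate

variable {G : Type*} [Group G] [Finite G] {P : Cfsg.BNPair G} {U : Subgroup G} {p : ℕ}

theorem closure_le_parabolic (J : Set G) : Subgroup.closure J ≤ P.parabolic J := le_sup_right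

theorem B_le_parabolic (J : Set G) : P.B ≤ P.parabolic J := le_sup_left

/-- The part of `N` belonging to `J`. -/
def NJ (P : Cfsg.BNPair G) (J : Set G) : Subgroup G := Subgroup.closure J ⊔ (P.B ⊓ P.N)

theorem NJ_le_N {J : Set G} (hJ : J ⊆ P.S) : NJ P J ≤ P.N :=
  sup_le ((Subgroup.closure_le _).2 fun s hs => P.subset (hJ hs)) inf_le_right

theorem NJ_le_parabolic (J : Set G) : NJ P J ≤ P.parabolic J :=
  sup_le le_sup_right (inf_le_left.trans le_sup_left)

/-- A parabolic subgroup has its own (B,N)-pair. -/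
def subPair (P : Cfsg.BNPair G) (J : Set G) (hJ : J ⊆ P.S) : Cfsg.BNPair ↥(P.parabolic J) where
  B := P.B.subgroupOf (P.parabolic J)
  N := (NJ P J).subgroupOf (P.parabolic J)
  S := Subtype.val ⁻¹' J
  sup_eq_top := by
    rw [← Subgroup.subgroupOf_sup (B_le_parabolic J) (NJ_le_parabolic J), Subgroup.subgroupOf_eq_top]
    exact sup_le le_sup_left ((le_sup_left : Subgroup.closure J ≤ NJ P J).trans le_sup_right)
  conj_mem := fun n hn t ht =>
    P.conj_mem n.1 (NJ_le_N hJ hn) t.1 ⟨ht.1, NJ_le_N hJ ht.2⟩
  subset := fun s hs => Subgroup.mem_sup_left (Subgroup.subset_closure hs)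
  sq_mem := fun s hs => P.sq_mem s.1 (hJ hs)
  inj := fun s hs s' hs' h => Subtype.ext (P.inj s.1 (hJ hs) s'.1 (hJ hs') h)
  closure_sup := by
    refine le_antisymm (sup_le ((Subgroup.closure_le _).2 fun s hs =>
      Subgroup.mem_sup_left (Subgroup.subset_closure hs)) inf_le_right) ?_
    rw [NJ, Subgroup.subgroupOf_sup (closure_le_parabolic J) (inf_le_left.trans (B_le_parabolic J))]
    refine sup_le_sup ?_ fun x hx => ⟨hx.1, Subgroup.mem_sup_right hx⟩
    rw [← Subgroup.map_le_map_iff_of_injective (P.parabolic J).subtype_injective,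
      Subgroup.map_subgroupOf_eq_of_le (closure_le_parabolic J), MonoidHom.map_closure,
      Subgroup.closure_le]
    exact fun s hs => Subgroup.subset_closure
      ⟨⟨s, closure_le_parabolic J (Subgroup.subset_closure hs)⟩, hs, rfl⟩
  mul_mem_union := fun s hs n hn b hb => by
    rcases P.mul_mem_union s.1 (hJ hs) n.1 (NJ_le_N hJ hn) b.1 hb with h | h
    · left
      obtain ⟨x, hx, y, hy, e⟩ := DoubleCoset.mem_doubleCoset.1 h
      exact DoubleCoset.mem_doubleCoset.2
        ⟨⟨x, B_le_parabolic J hx⟩, hx, ⟨y, B_le_parabolic J hy⟩, hy, Subtype.ext e⟩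
    · right
      obtain ⟨x, hx, y, hy, e⟩ := DoubleCoset.mem_doubleCoset.1 h
      exact DoubleCoset.mem_doubleCoset.2
        ⟨⟨x, B_le_parabolic J hx⟩, hx, ⟨y, B_le_parabolic J hy⟩, hy, Subtype.ext e⟩
  conj_ne := by
    intro s hs h
    refine P.conj_ne s.1 (hJ hs) (Set.Subset.antisymm ?_ ?_)
    · rintro _ ⟨b, hb, rfl⟩
      have h1 : s * (⟨b, B_le_parabolic J hb⟩ : ↥(P.parabolic J)) * s ∈
          (fun b : ↥(P.parabolic J) => s * b * s) '' (P.B.subgroupOf (P.parabolic J) : Set _) :=
        ⟨_, hb, rfl⟩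
      rw [h] at h1
      exact h1
    · intro x hx
      have h1 : (⟨x, B_le_parabolic J hx⟩ : ↥(P.parabolic J)) ∈
          (P.B.subgroupOf (P.parabolic J) : Set _) := hx
      rw [← h] at h1
      obtain ⟨b, hb, e⟩ := h1
      exact ⟨b.1, hb, congrArg Subtype.val e⟩

theorem parabolic_subPair {J : Set G} (hJ : J ⊆ P.S) {K' : Set ↥(P.parabolic J)}
    (hK : Subtype.val '' K' ⊆ J) :
    (subPair P J hJ).parabolic K' = (P.parabolic (Subtype.val '' K')).subgroupOf (P.parabolic J) := by
  refine Subgroup.map_injective (P.parabolic J).subtype_injective ?_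
  rw [Subgroup.map_subgroupOf_eq_of_le (parabolic_mono hK)]
  show (P.B.subgroupOf (P.parabolic J) ⊔ Subgroup.closure K').map _ = _
  rw [Subgroup.map_sup, MonoidHom.map_closure,
    Subgroup.map_subgroupOf_eq_of_le (B_le_parabolic J)]
  rfl

theorem card_fix_subPair {J K : Set G} (g : ↥(P.parabolic J)) :
    Nat.card ↥(MulAction.fixedBy (↥(P.parabolic J) ⧸ (P.parabolic K).subgroupOf (P.parabolic J)) g) =
      Nat.card ↥(FixK P J K (g : G)) := by
  let f : ↥(P.parabolic J) ⧸ (P.parabolic K).subgroupOf (P.parabolic J) → G ⧸ P.parabolic K :=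
    Quotient.map' Subtype.val fun a b h => by
      rw [QuotientGroup.leftRel_apply] at h ⊢
      exact Subgroup.mem_subgroupOf.1 h
  have hf : ∀ q : ↥(P.parabolic J), f (q : _ ⧸ _) = ((q : G) : G ⧸ P.parabolic K) := fun q => rfl
  have hinj : Function.Injective f := by
    intro x y
    induction x using QuotientGroup.induction_on with
    | _ a =>
      induction y using QuotientGroup.induction_on with
      | _ b =>
        intro h
        rw [hf, hf, QuotientGroup.eq] at h
        exact QuotientGroup.eq.2 (Subgroup.mem_subgroupOf.2 h)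
  have hsm : ∀ x, f (g • x) = (g : G) • f x := by
    intro x
    induction x using QuotientGroup.induction_on with
    | _ a => rfl
  refine Nat.card_eq_of_bijective (fun x => ⟨f x.1, ?_, ?_⟩) ⟨?_, ?_⟩
  · rw [← hsm, MulAction.mem_fixedBy.1 x.2]
  · obtain ⟨a, ha⟩ := QuotientGroup.mk_surjective x.1
    exact ⟨a, a.2, by rw [← ha, hf]⟩
  · exact fun x y e => Subtype.ext (hinj (congrArg Subtype.val e))
  · rintro ⟨c, hc, q, hq, rfl⟩
    exact ⟨⟨((⟨q, hq⟩ : ↥(P.parabolic J)) : _ ⧸ _), MulAction.mem_fixedBy.2 (hinj (by rw [hsm]; exact hc))⟩,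
      rfl⟩

theorem st_subPair {J : Finset G} (hJ : (J : Set G) ⊆ P.S) (g : ↥(P.parabolic (J : Set G))) :
    st (subPair P (J : Set G) hJ) g = (phi P J (g : G) : ℂ) := by
  classical
  rw [st, phi, Int.cast_sum]
  have hval : ∀ K' ∈ (gens (subPair P (J : Set G) hJ)).powerset,
      K'.image Subtype.val ∈ J.powerset := fun K' hK => by
    refine Finset.mem_powerset.2 fun x hx => ?_
    obtain ⟨y, hy, rfl⟩ := Finset.mem_image.1 hx
    have h := Finset.mem_powerset.1 hK hy
    rw [gens, Set.Finite.mem_toFinset] at h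
    exact h
  refine Finset.sum_bij (fun K' _ => K'.image Subtype.val) hval
    (fun a _ b _ e => Finset.image_injective Subtype.val_injective e) (fun K hK => ?_) fun K' hK => ?_
  · refine ⟨K.preimage Subtype.val Subtype.val_injective.injOn, ?_, ?_⟩
    · refine Finset.mem_powerset.2 fun x hx => (Set.Finite.mem_toFinset _).2 ?_
      exact Finset.mem_powerset.1 hK (Finset.mem_preimage.1 hx)
    · refine Finset.image_preimage _ _ _ |>.trans (Finset.filter_true_of_mem fun x hx => ?_)
      exact ⟨⟨x, closure_le_parabolic _ (Subgroup.subset_closure (Finset.mem_powerset.1 hK hx))⟩, rfl⟩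
  · have hsub := Finset.coe_subset.2 (Finset.mem_powerset.1 (hval K' hK))
    rw [Finset.coe_image] at hsub
    rw [Finset.card_image_of_injective _ Subtype.val_injective, Cfsg.fixedPointCharacter,
      parabolic_subPair hJ hsub, card_fix_subPair, Finset.coe_image]
    push_cast
    rfl

/-- The alternating sum on a parabolic subgroup. -/
noncomputable def phiC (P : Cfsg.BNPair G) (J : Finset G) : ↥(P.parabolic (J : Set G)) → ℂ :=
  fun g => (phi P J (g : G) : ℂ)

theorem phi_one_eq (S : Split P U p) {J : Finset G} (hJ : (J : Set G) ⊆ P.S)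
    (hR : RadNormal P U (J : Set G)) {n : G} (hn : n ∈ Subgroup.closure (J : Set G))
    (htop : Top P (J : Set G) n) : phi P J 1 = Nat.card ↥(TopPts P (J : Set G)) :=
  (phi_U S hJ hR hn htop (one_mem U)).1 (one_mem _)

theorem isIrr_phiC (S : Split P U p) {J : Finset G} (hJ : (J : Set G) ⊆ P.S)
    (hR : RadNormal P U (J : Set G)) :
    Cfsg.IsIrrCharacter ↥(P.parabolic (J : Set G)) (phiC P J) := by
  classical
  haveI := Fintype.ofFinite ↥(P.parabolic (J : Set G))
  have he : phiC P J = st (subPair P (J : Set G) hJ) := funext fun g => (st_subPair hJ g).symm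
  rw [he]
  obtain h | h := isIrr_or_neg_of_norm_one isGeneralized_st
    (classInner_st_self (P := subPair P (J : Set G) hJ))
  · exact h
  · exfalso
    rw [← he] at h
    obtain ⟨n, hn, htop⟩ := exists_top (P := P) hJ
    have h1 := IsCharacter.apply_one_eq_deg (isCharacter_of_irr h)
    rw [Pi.neg_apply, phiC, Subgroup.coe_one, phi_one_eq S hJ hR hn htop] at h1
    push_cast at h1
    have h2 : ((Nat.card ↥(TopPts P (J : Set G)) + deg (-phiC P J) : ℕ) : ℂ) = 0 := by
      push_cast; linear_combination -h1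
    rw [Nat.cast_eq_zero] at h2
    have h3 : Nat.card ↥(TopPts P (J : Set G)) ≠ 0 := by
      intro h0
      have := card_topPts S hJ hn htop
      rw [h0, zero_mul] at this
      exact Nat.card_pos.ne' this.symm
    omega

/-- The inner product with a permutation character is an average. -/
theorem classInner_fpc_avg {H : Type*} [Group H] [Fintype H] {f : H → ℂ}
    (hf : Cfsg.IsClassFunction H f) (K : Subgroup H) [Fintype K] :
    Cfsg.classInner f (Cfsg.fixedPointCharacter K) = (Nat.card K : ℂ)⁻¹ * ∑ k : K, f k := by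
  classical
  haveI := Fintype.ofFinite (H ⧸ K)
  rw [classInner_def]
  have h1 : ∀ g : H, f g * conj (Cfsg.fixedPointCharacter K g) =
      ∑ x : H ⧸ K, if g • x = x then f g else 0 := by
    intro g
    rw [Cfsg.fixedPointCharacter, Complex.conj_natCast, ← Finset.sum_filter, Finset.sum_const,
      nsmul_eq_mul, mul_comm]
    congr 2
    rw [Nat.card_eq_fintype_card, ← Set.toFinset_card]
    congr 1
    ext x
    simp [MulAction.mem_fixedBy]
  rw [Finset.sum_congr rfl fun g _ => h1 g, Finset.sum_comm]
  have h2 : ∀ x : H ⧸ K, (∑ g : H, if g • x = x then f g else 0) = ∑ k : K, f k := by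
    intro x
    induction x using QuotientGroup.induction_on with
    | _ a =>
      rw [← Finset.sum_filter]
      refine (Finset.sum_bij (fun (k : K) _ => a * (k : H) * a⁻¹) (fun k _ => ?_) (fun k _ k' _ e => ?_)
        (fun g hg => ?_) fun k _ => (hf _ _).symm).symm
      · rw [Finset.mem_filter, MulAction.Quotient.smul_mk, QuotientGroup.eq, smul_eq_mul]
        refine ⟨Finset.mem_univ _, ?_⟩
        simp [mul_assoc]
      · exact Subtype.ext (mul_left_cancel (mul_right_cancel e))
      · rw [Finset.mem_filter, MulAction.Quotient.smul_mk, QuotientGroup.eq, smul_eq_mul] at hg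
        refine ⟨⟨a⁻¹ * g * a, ?_⟩, Finset.mem_univ _, by group⟩
        have := inv_mem hg.2
        simpa [mul_assoc] using this
  rw [Finset.sum_congr rfl fun x _ => h2 x, Finset.sum_const, Finset.card_univ, nsmul_eq_mul,
    Subgroup.card_eq_card_quotient_mul_card_subgroup K, Nat.card_eq_fintype_card (α := H ⧸ K)]
  push_cast
  have : (Fintype.card (H ⧸ K) : ℂ) ≠ 0 := by exact_mod_cast Fintype.card_ne_zero
  field_simp

theorem avg_subgroupOf (f : G → ℂ) {K H : Subgroup G} (h : K ≤ H) [Fintype ↥K]
    [Fintype ↥(K.subgroupOf H)] :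
    (Nat.card ↥(K.subgroupOf H) : ℂ)⁻¹ * ∑ k : ↥(K.subgroupOf H), f ((k : ↥H) : G) =
      (Nat.card ↥K : ℂ)⁻¹ * ∑ k : ↥K, f k := by
  rw [Nat.card_congr (Subgroup.subgroupOfEquivOfLe h).toEquiv]
  congr 1
  exact Fintype.sum_equiv (Subgroup.subgroupOfEquivOfLe h).toEquiv _ _ fun x => rfl

theorem classInner_st_phi (S : Split P U p) (ho : Opp P U) {J : Finset G}
    (hJ : (J : Set G) ⊆ P.S) [Fintype ↥(P.parabolic (J : Set G))] :
    Cfsg.classInner (fun g : ↥(P.parabolic (J : Set G)) => st P g) (phiC P J) = 1 := by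
  classical
  haveI := Fintype.ofFinite G
  have hst := isClassFunction_isChar (isCharacter_of_irr (isIrr_st S ho))
  have e : phiC P J = ∑ K ∈ J.powerset, ((-1 : ℂ) ^ K.card) •
      Cfsg.fixedPointCharacter ((P.parabolic (K : Set G)).subgroupOf (P.parabolic (J : Set G))) := by
    funext g
    rw [Finset.sum_apply, phiC, phi, Int.cast_sum]
    refine Finset.sum_congr rfl fun K _ => ?_
    rw [Pi.smul_apply, smul_eq_mul, Cfsg.fixedPointCharacter, card_fix_subPair]
    push_cast
    rfl
  rw [e, classInner_sum_right, Finset.sum_eq_single ∅]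
  · rw [classInner_smul_right]
    simp only [Finset.card_empty, pow_zero, map_one, one_mul, Finset.coe_empty]
    have hB : P.parabolic (∅ : Set G) ≤ P.parabolic (J : Set G) := parabolic_mono (Set.empty_subset _)
    have h := classInner_st_fpc (P := P) (K := ∅) (by simp)
    rw [if_pos rfl, Finset.coe_empty] at h
    rw [classInner_fpc_avg hst] at h
    rw [classInner_fpc_avg (f := fun g : ↥(P.parabolic (J : Set G)) => st P g)
      (fun g y => by simp only [Subgroup.coe_mul, InvMemClass.coe_inv]; exact hst _ _)]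
    rw [avg_subgroupOf (st P) hB, h]
  · intro K hK hne
    have hKJ := Finset.coe_subset.2 (Finset.mem_powerset.1 hK)
    have hB := parabolic_mono (P := P) hKJ
    have h := classInner_st_fpc (P := P) (hKJ.trans hJ)
    rw [if_neg hne, classInner_fpc_avg hst] at h
    rw [classInner_smul_right, classInner_fpc_avg (f := fun g : ↥(P.parabolic (J : Set G)) => st P g)
      (fun g y => by simp only [Subgroup.coe_mul, InvMemClass.coe_inv]; exact hst _ _)]
    rw [avg_subgroupOf (st P) hB, h, mul_zero]
  · simp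

end Cfsg.Lib.Steinberg
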