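import Cfsg.Agent.Steinberg.Weyl

/-! Points of the flag space of a (B,N)-pair: cells, shortest representatives in cosets of parabolics. -/

set_option autoImplicit false

namespace Cfsg.Lib.Steinberg

open Cfsg.Lib.BN

variable {G : Type*} [Group G] {P : Cfsg.BNPair G}

/-- A chosen representative in `N` of the double coset of `g`. -/
noncomputable def nrep (P : Cfsg.BNPair G) (g : G) : G := (bruhat P g).choose

theorem nrep_mem (g : G) : nrep P g ∈ P.N := (bruhat P g).choose_spec.1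

theorem mem_dc_nrep (g : G) : g ∈ dc P (nrep P g) := (bruhat P g).choose_spec.2

theorem cong_nrep {g n : G} (hn : n ∈ P.N) (h : g ∈ dc P n) : Cong P (nrep P g) n :=
  cong_of_dc_eq (nrep_mem g) hn ((dc_eq_of_mem (mem_dc_nrep g)).symm.trans (dc_eq_of_mem h))

theorem dc_cong {n m : G} (h : Cong P n m) {g : G} (hg : g ∈ dc P n) : g ∈ dc P m := h.dc_eq ▸ hg

theorem cong_eq_mul {n m : G} (h : Cong P n m) : m = n * (n⁻¹ * m) := by group

theorem conj_mem_of_cong {n m g : G} (h : Cong P n m) (hg : n⁻¹ * g * n ∈ P.B) : m⁻¹ * g * m ∈ P.B := by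
  have e : m⁻¹ * g * m = (n⁻¹ * m)⁻¹ * (n⁻¹ * g * n) * (n⁻¹ * m) := by group
  rw [e]
  exact mul_mem (mul_mem (inv_mem h.1) hg) h.1

theorem len_inv_mul {s n : G} (hs : s ∈ P.S) (hn : n ∈ P.N) : len P (s * n⁻¹) = len P (n * s) := by
  rw [← len_inv (mul_mem (P.subset hs) (inv_mem hn)), mul_inv_rev, inv_inv]
  exact len_congr (mul_mem hn (inv_mem (P.subset hs))) ((cong_inv_self hs).mul_left n)

theorem mul_smem_dc {s n y : G} (hs : s ∈ P.S) (hn : n ∈ P.N) (hlt : len P n < len P (n * s))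
    (hy : y ∈ dc P n) : y * s ∈ dc P (n * s) := by
  obtain ⟨a, ha, b, hb, rfl⟩ := mem_dc.1 hy
  have hle : len P n⁻¹ ≤ len P (s * n⁻¹) := by rw [len_inv hn, len_inv_mul hs hn]; exact hlt.le
  have h1 := smul_mem_dc_of_le hs (inv_mem hn) hle (inv_mem hb)
  have h2 := inv_mem_dc h1
  have h3 : (s * n⁻¹)⁻¹ = n * s⁻¹ := by group
  rw [h3, ((cong_inv_self hs).mul_left n).dc_eq] at h2
  obtain ⟨c, hc, d, hd, e⟩ := mem_dc.1 h2
  refine mem_dc.2 ⟨a * c, mul_mem ha hc, d * (s * s), mul_mem hd (P.sq_mem s hs), ?_⟩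
  calc a * n * b * s = a * ((s * b⁻¹ * n⁻¹)⁻¹) * (s * s) := by group
    _ = a * (c * (n * s) * d) * (s * s) := by rw [e]
    _ = _ := by group

theorem mul_prod_mem_dc : ∀ (l : List G) {n y : G}, IsWord P l → n ∈ P.N →
    len P (n * l.prod) = len P n + l.length → y ∈ dc P n → y * l.prod ∈ dc P (n * l.prod)
  | [], n, y, _, _, _, hy => by simpa using hy
  | s :: t, n, y, hl, hn, hlen, hy => by
    rw [isWord_cons] at hl
    have hsN := P.subset hl.1
    rw [List.prod_cons, List.length_cons, ← mul_assoc] at hlen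
    rw [List.prod_cons, ← mul_assoc, ← mul_assoc]
    have h1 := len_mul_right_le hl.1 hn
    have h2 := len_mul_le (mul_mem hn hsN) hl.2.prod_mem
    have h3 := len_le hl.2 (Cong.refl (P := P) t.prod)
    exact mul_prod_mem_dc t hl.2 (mul_mem hn hsN) (by omega)
      (mul_smem_dc hl.1 hn (by omega) hy)

theorem mul_mem_dc_of_add {n v y z : G} (hn : n ∈ P.N) (hv : v ∈ P.N)
    (hadd : len P (n * v) = len P n + len P v) (hy : y ∈ dc P n) (hz : z ∈ dc P v) :
    y * z ∈ dc P (n * v) := by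
  obtain ⟨l, hl, hlen, hc⟩ := exists_reduced hv
  obtain ⟨a, ha, b, hb, rfl⟩ := mem_dc.1 hz
  have hya : y * a ∈ dc P n := by simpa using mul_mem_dc (one_mem _) ha hy
  have h1 := mul_prod_mem_dc l hl hn
    (by rw [len_congr (mul_mem hn hl.prod_mem) (hc.mul_left n), hlen, hadd]) hya
  have h2 := dc_cong (hc.mul_left n) h1
  have := mul_mem_dc (one_mem _) (mul_mem hc.1 hb) h2
  convert this using 1
  group

theorem fix_prefix_word : ∀ (l : List G) {n g : G}, IsWord P l → n ∈ P.N →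
    len P (n * l.prod) = len P n + l.length → g ∈ P.B →
    (n * l.prod)⁻¹ * g * (n * l.prod) ∈ P.B → n⁻¹ * g * n ∈ P.B := by
  intro l
  induction l using List.reverseRecOn with
  | nil => intro n g _ _ _ _ h; simpa using h
  | append_singleton t s ih =>
    intro n g hl hn hlen hg h
    rw [isWord_append, isWord_cons] at hl
    obtain ⟨ht, hs, -⟩ := hl
    rw [List.prod_append, List.prod_singleton, ← mul_assoc, List.length_append, List.length_singleton] at hlen
    rw [List.prod_append, List.prod_singleton, ← mul_assoc n t.prod s] at h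
    have htN := ht.prod_mem
    have hsN := P.subset hs
    set y := n * t.prod with hy
    have hyN : y ∈ P.N := mul_mem hn htN
    have h1 : len P y = len P n + t.length := by
      have a1 : len P y ≤ len P n + len P t.prod := len_mul_le hn htN
      have a2 := len_le ht (Cong.refl (P := P) t.prod)
      have a3 := len_mul_right_le hs hyN
      omega
    refine ih ht hn h1 hg ?_
    have hx : s⁻¹ * (y⁻¹ * g * y) * s ∈ P.B := by
      have e : s⁻¹ * (y⁻¹ * g * y) * s = (y * s)⁻¹ * g * (y * s) := by group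
      rw [e]; exact h
    rcases smul_mem hs (inv_mem hsN) hx with h2 | h2
    · have e : y⁻¹ * g * y = s * (s⁻¹ * (y⁻¹ * g * y) * s) * s⁻¹ := by group
      rw [← e] at h2
      rw [mul_inv_cancel] at h2
      obtain ⟨a, ha, b, hb, e2⟩ := mem_dc.1 h2
      rw [e2]; simpa using mul_mem ha hb
    · have e : y⁻¹ * g * y = s * (s⁻¹ * (y⁻¹ * g * y) * s) * s⁻¹ := by group
      rw [← e, (cong_inv_self hs).dc_eq] at h2
      exfalso
      have h3 : g * y ∈ dc P y := mem_dc.2 ⟨g, hg, 1, one_mem _, by group⟩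
      have hs1 : len P s = 1 := by
        refine le_antisymm (len_le (l := [s]) (isWord_cons.2 ⟨hs, isWord_nil⟩) (by simp [Cong.refl])) ?_
        exact Nat.one_le_iff_ne_zero.2 fun h0 => not_mem_B hs ((len_eq_zero hsN).1 h0)
      have h4 : y * (y⁻¹ * g * y) ∈ dc P (y * s) :=
        mul_mem_dc_of_add hyN hsN (by omega) (self_mem_dc y) h2
      rw [show y * (y⁻¹ * g * y) = g * y by group] at h4
      have h5 := cong_of_dc_eq hyN (mul_mem hyN hsN) ((dc_eq_of_mem h3).symm.trans (dc_eq_of_mem h4))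
      have := len_congr hyN h5
      omega

theorem fix_prefix {n v g : G} (hn : n ∈ P.N) (hv : v ∈ P.N)
    (hadd : len P (n * v) = len P n + len P v) (hg : g ∈ P.B)
    (h : (n * v)⁻¹ * g * (n * v) ∈ P.B) : n⁻¹ * g * n ∈ P.B := by
  obtain ⟨l, hl, hlen, hc⟩ := exists_reduced hv
  refine fix_prefix_word l hl hn (by rw [len_congr (mul_mem hn hl.prod_mem) (hc.mul_left n), hlen, hadd]) hg ?_
  exact conj_mem_of_cong (hc.symm.mul_left n) h

/-- The flag space. -/
abbrev Pt (P : Cfsg.BNPair G) := G ⧸ P.B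

/-- The cell of a point. -/
noncomputable def cell (x : Pt P) : G := nrep P x.out

theorem cell_mem (x : Pt P) : cell x ∈ P.N := nrep_mem _

theorem exists_out (g : G) : ∃ b ∈ P.B, ((g : Pt P)).out = g * b := by
  obtain ⟨b, hb⟩ := QuotientGroup.mk_out_eq_mul P.B g
  exact ⟨b.1, b.2, hb⟩

theorem cong_cell {g n : G} (hn : n ∈ P.N) (h : g ∈ dc P n) : Cong P (cell (g : Pt P)) n := by
  obtain ⟨b, hb, e⟩ := exists_out (P := P) g
  refine cong_nrep hn ?_
  rw [e]
  simpa using mul_mem_dc (one_mem _) hb h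

theorem mem_dc_cell (x : Pt P) : x.out ∈ dc P (cell x) := mem_dc_nrep _

theorem cong_cell_smul {g : G} (hg : g ∈ P.B) (x : Pt P) : Cong P (cell (g • x)) (cell x) := by
  induction x using QuotientGroup.induction_on with
  | _ y =>
    obtain ⟨n, hn, hy⟩ := bruhat P y
    refine (cong_cell hn ?_).trans (cong_cell hn hy).symm
    simpa using mul_mem_dc hg (one_mem _) hy

theorem mk_eq_mk {g h : G} : (g : Pt P) = (h : Pt P) ↔ g⁻¹ * h ∈ P.B := QuotientGroup.eq

theorem smul_eq_self_iff {g y : G} : g • (y : Pt P) = (y : Pt P) ↔ y⁻¹ * g * y ∈ P.B := by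
  rw [MulAction.Quotient.smul_mk, mk_eq_mk, smul_eq_mul, mul_inv_rev, ← Subgroup.inv_mem_iff]
  simp [mul_assoc]

/-- The projection of the flag space onto the cosets of a parabolic. -/
noncomputable def toK (K : Set G) (x : Pt P) : G ⧸ P.parabolic K := (x.out : G ⧸ P.parabolic K)

theorem toK_mk (K : Set G) (g : G) : toK K (g : Pt P) = (g : G ⧸ P.parabolic K) := by
  obtain ⟨b, hb, e⟩ := exists_out (P := P) g
  rw [toK, e, QuotientGroup.eq]
  have : (g * b)⁻¹ * g = b⁻¹ := by group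
  rw [this]
  exact Subgroup.mem_sup_left (inv_mem hb)

theorem toK_smul (K : Set G) (g : G) (x : Pt P) : toK K (g • x) = g • toK K x := by
  induction x using QuotientGroup.induction_on with
  | _ y => rw [MulAction.Quotient.smul_mk, toK_mk, toK_mk, MulAction.Quotient.smul_mk]

theorem out_mem_parabolic_iff {J : Set G} {g : G} :
    ((g : Pt P)).out ∈ P.parabolic J ↔ g ∈ P.parabolic J := by
  obtain ⟨b, hb, e⟩ := exists_out (P := P) g
  rw [e]
  exact (P.parabolic J).mul_mem_cancel_right (Subgroup.mem_sup_left hb)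

theorem exists_cell_mem {J : Set G} (hJ : J ⊆ P.S) {x : Pt P} (hx : x.out ∈ P.parabolic J) :
    ∃ n ∈ Subgroup.closure J, Cong P (cell x) n ∧ x.out ∈ dc P n := by
  obtain ⟨n, hn, h⟩ := (parabolic_mem_iff P hJ).1 hx
  exact ⟨n, hn, cong_nrep (mem_N_of_mem hJ hn) h, h⟩

theorem low_inj {K : Set G} (hK : K ⊆ P.S) {x x' : Pt P} (h : Low P K (cell x)) (h' : Low P K (cell x'))
    (e : toK K x = toK K x') : x = x' := by
  rw [toK, toK, QuotientGroup.eq] at e
  obtain ⟨v, hv, hp⟩ := (parabolic_mem_iff P hK).1 e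
  have hvN := mem_N_of_mem hK hv
  have hadd := len_mul_of_low hK (cell_mem x) h hv
  have h1 := mul_mem_dc_of_add (cell_mem x) hvN hadd (mem_dc_cell x) hp
  rw [mul_inv_cancel_left] at h1
  have hc : Cong P (cell x') (cell x * v) := cong_nrep (mul_mem (cell_mem x) hvN) h1
  have h2 := len_mul_of_low hK (mul_mem (cell_mem x) hvN) (low_congr hK (cell_mem x') hc h') (inv_mem hv)
  rw [mul_inv_cancel_right, len_inv hvN, hadd] at h2
  have hv0 : v ∈ P.B := (len_eq_zero hvN).1 (by omega)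
  have hpB : x.out⁻¹ * x'.out ∈ P.B := by
    obtain ⟨a, ha, b, hb, e2⟩ := mem_dc.1 hp
    rw [e2]; exact mul_mem (mul_mem ha hv0) hb
  rw [← QuotientGroup.out_eq' x, ← QuotientGroup.out_eq' x']
  exact QuotientGroup.eq.2 hpB

theorem low_surj {J K : Set G} (hJ : J ⊆ P.S) (hKJ : K ⊆ J) {q : G} (hq : q ∈ P.parabolic J) :
    ∃ x : Pt P, x.out ∈ P.parabolic J ∧ Low P K (cell x) ∧ toK K x = (q : G ⧸ P.parabolic K) := by
  obtain ⟨n, hn, hqn⟩ := (parabolic_mem_iff P hJ).1 hq
  have hnN := mem_N_of_mem hJ hn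
  obtain ⟨w, hw, hlow⟩ := exists_low (hKJ.trans hJ) hnN
  have hwN := mem_N_of_mem (hKJ.trans hJ) hw
  obtain ⟨a, ha, b, hb, rfl⟩ := mem_dc.1 hqn
  refine ⟨((a * (n * w) : G) : Pt P), out_mem_parabolic_iff.2 ?_, ?_, ?_⟩
  · exact mul_mem (Subgroup.mem_sup_left ha) (Subgroup.mem_sup_right
      (mul_mem hn (Subgroup.closure_mono hKJ hw)))
  · refine low_congr (hKJ.trans hJ) (mul_mem hnN hwN) (cong_cell (mul_mem hnN hwN) ?_).symm hlow
    exact mem_dc.2 ⟨a, ha, 1, one_mem _, by group⟩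
  · rw [toK_mk, QuotientGroup.eq]
    have : (a * (n * w))⁻¹ * (a * n * b) = w⁻¹ * b := by group
    rw [this]
    exact mul_mem (Subgroup.mem_sup_right (inv_mem hw)) (Subgroup.mem_sup_left hb)

end Cfsg.Lib.Steinberg
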