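import Cfsg.Agent.Steinberg.Unip
import Cfsg.Agent.Chars.Construct
import Cfsg.Agent.Chars.Perm
import Cfsg.Agent.Chars.DefectZero
import Cfsg.Prelude.Def_ParabolicCharacters

/-! The Steinberg character of a split (B,N)-pair. -/

set_option autoImplicit false

namespace Cfsg.Lib.Steinberg

open Cfsg.Lib.BN Cfsg.Lib.Chars
open scoped Pointwise ComplexConjugate

variable {G : Type*} [Group G] [Finite G] {P : Cfsg.BNPair G} {U : Subgroup G} {p : ℕ}

/-- The set of generators as a finite set. -/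
noncomputable def gens (P : Cfsg.BNPair G) : Finset G := (Set.toFinite P.S).toFinset

theorem coe_gens : (gens P : Set G) = P.S := Set.Finite.coe_toFinset _

theorem coe_gens_subset : (gens P : Set G) ⊆ P.S := coe_gens.subset

/-- The Steinberg character. -/
noncomputable def st (P : Cfsg.BNPair G) : G → ℂ :=
  fun g => ∑ K ∈ (gens P).powerset, (-1 : ℂ) ^ K.card * Cfsg.fixedPointCharacter (P.parabolic (K : Set G)) g

/-- Oppositeness: some element of `N` carries `U` away from `B`. -/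
def Opp (P : Cfsg.BNPair G) (U : Subgroup G) : Prop :=
  ∃ w ∈ P.N, ∀ u ∈ U, w⁻¹ * u * w ∈ P.B → u = 1

theorem exists_closure_cong {n : G} (hn : n ∈ P.N) : ∃ m ∈ Subgroup.closure P.S, Cong P n m := by
  obtain ⟨m, hm, h⟩ := (parabolic_mem_iff P (subset_refl P.S)).1
    (show n ∈ P.parabolic P.S by rw [parabolic_S]; exact Subgroup.mem_top n)
  exact ⟨m, hm, cong_of_mem_dc hn (mem_N_of_mem (subset_refl _) hm) h⟩

theorem mem_parabolic_gens (g : G) : g ∈ P.parabolic (gens P : Set G) := by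
  rw [coe_gens, parabolic_S]; exact Subgroup.mem_top g

theorem st_eq_phi (g : G) : st P g = (phi P (gens P) g : ℂ) := by
  rw [st, phi, Int.cast_sum]
  refine Finset.sum_congr rfl fun K _ => ?_
  push_cast
  congr 1
  unfold Cfsg.fixedPointCharacter
  congr 1
  refine Nat.card_congr (Equiv.setCongr ?_)
  ext c
  refine ⟨fun h => ⟨h, ?_⟩, fun h => h.1⟩
  obtain ⟨q, rfl⟩ := QuotientGroup.mk_surjective c
  exact ⟨q, mem_parabolic_gens q, rfl⟩

theorem rad_eq_bot (S : Split P U p) (ho : Opp P U) {n : G} (hn : n ∈ Subgroup.closure (gens P : Set G))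
    (htop : Top P (gens P : Set G) n) : rad P U n = ⊥ := by
  refine eq_bot_iff.2 fun u hu => ?_
  obtain ⟨w, hw, hopp⟩ := ho
  obtain ⟨m, hm, hc⟩ := exists_closure_cong hw
  rw [← coe_gens (P := P)] at hm
  obtain ⟨huU, hun⟩ := mem_rad.1 hu
  exact hopp u huU (conj_mem_of_cong hc.symm (top_fix coe_gens_subset hn htop hm (S.le huU) hun))

theorem radNormal_gens (S : Split P U p) (ho : Opp P U) : RadNormal P U (gens P : Set G) := by
  intro n hn htop u hu a _
  rw [rad_eq_bot S ho hn htop, Subgroup.mem_bot] at hu ⊢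
  simp [hu]

theorem st_B (S : Split P U p) (ho : Opp P U) {b : G} (hb : b ∈ P.B) :
    st P b = Cfsg.fixedPointCharacter ((P.B ⊓ P.N).subgroupOf P.B) (⟨b, hb⟩ : ↥P.B) := by
  obtain ⟨n, hn, htop⟩ := exists_top (P := P) coe_gens_subset
  have hnN := mem_N_of_mem coe_gens_subset hn
  rw [st_eq_phi, phi_eq coe_gens_subset hb, Int.cast_natCast, Cfsg.fixedPointCharacter]
  congr 1
  have hHn : ∀ a : G, a ∈ P.B → (n⁻¹ * a * n ∈ P.B ↔ a ∈ P.B ⊓ P.N) := by
    intro a ha
    refine ⟨fun h => ?_, fun h => ?_⟩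
    · obtain ⟨u, hu, k, hk, rfl⟩ := S.decomp a ha
      have h2 := (conj_mem_inf (inv_mem hnN) hk).1
      rw [inv_inv] at h2
      have h3 : n⁻¹ * u * n ∈ P.B := by
        have := mul_mem h (inv_mem h2)
        convert this using 1
        group
      have hu1 : u ∈ rad P U n := mem_rad.2 ⟨hu, h3⟩
      rw [rad_eq_bot S ho hn htop, Subgroup.mem_bot] at hu1
      rw [hu1, one_mul]; exact hk
    · have h2 := (conj_mem_inf (inv_mem hnN) h).1
      rwa [inv_inv] at h2
  let f : ↥P.B ⧸ (P.B ⊓ P.N).subgroupOf P.B → Pt P := Quotient.lift (fun a : ↥P.B => ((a.1 * n : G) : Pt P))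
    (fun a a' h => by
      rw [mk_eq_mk]
      have h' := Subgroup.mem_subgroupOf.1 (QuotientGroup.leftRel_apply.1 h)
      have h2 := (hHn _ (Subgroup.mem_inf.1 h').1).2 h'
      convert h2 using 1
      simp [mul_assoc])
  have hfmk : ∀ a : ↥P.B, f (a : ↥P.B ⧸ (P.B ⊓ P.N).subgroupOf P.B) = ((a.1 * n : G) : Pt P) := fun a => rfl
  have hfsm : ∀ x, f ((⟨b, hb⟩ : ↥P.B) • x) = b • f x := by
    intro x
    induction x using QuotientGroup.induction_on with
    | _ a =>
      rw [MulAction.Quotient.smul_mk, hfmk, hfmk, MulAction.Quotient.smul_mk]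
      simp [mul_assoc]
  have hinj : Function.Injective f := by
    intro x y
    induction x using QuotientGroup.induction_on with
    | _ a =>
      induction y using QuotientGroup.induction_on with
      | _ a' =>
        intro h
        rw [hfmk, hfmk, mk_eq_mk] at h
        refine QuotientGroup.eq.2 (Subgroup.mem_subgroupOf.2 ((hHn _ (mul_mem (inv_mem a.2) a'.2)).1 ?_))
        convert h using 1
        simp [mul_assoc]
  refine (Nat.card_eq_of_bijective
    (fun x : ↥(MulAction.fixedBy (↥P.B ⧸ (P.B ⊓ P.N).subgroupOf P.B) (⟨b, hb⟩ : ↥P.B)) =>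
      (⟨f x.1, ?_, ?_⟩ : ↥{x ∈ TopPts P (gens P : Set G) | b • x = x})) ⟨?_, ?_⟩).symm
  · obtain ⟨a, ha⟩ := QuotientGroup.mk_surjective x.1
    rw [topPts_eq S coe_gens_subset hn htop, ← ha, hfmk]
    obtain ⟨u, hu, k, hk, e⟩ := S.decomp a.1 a.2
    refine ⟨⟨u, hu⟩, ?_⟩
    show ((u * n : G) : Pt P) = _
    rw [mk_eq_mk, e]
    have h2 := (conj_mem_inf (inv_mem hnN) hk).1
    rw [inv_inv] at h2
    rw [show (u * n)⁻¹ * (u * k * n) = n⁻¹ * k * n by group]
    exact h2
  · rw [← hfsm, MulAction.mem_fixedBy.1 x.2]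
  · exact fun x y e => Subtype.ext (hinj (congrArg Subtype.val e))
  · rintro ⟨z, hz, hbz⟩
    rw [topPts_eq S coe_gens_subset hn htop] at hz
    obtain ⟨a, rfl⟩ := hz
    refine ⟨⟨((⟨a.1, S.le a.2⟩ : ↥P.B) : ↥P.B ⧸ (P.B ⊓ P.N).subgroupOf P.B), ?_⟩, rfl⟩
    rw [MulAction.mem_fixedBy]
    exact hinj (by rw [hfsm, hfmk]; exact hbz)

theorem st_one (S : Split P U p) (ho : Opp P U) : st P 1 = (Nat.card ↥U : ℂ) := by
  obtain ⟨n, hn, htop⟩ := exists_top (P := P) coe_gens_subset
  have h := (phi_U S coe_gens_subset (radNormal_gens S ho) hn htop (one_mem U)).1 (one_mem _)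
  have hc := card_topPts S coe_gens_subset hn htop
  rw [rad_eq_bot S ho hn htop, Subgroup.card_bot, mul_one] at hc
  rw [st_eq_phi, h, hc, Int.cast_natCast]

theorem st_U (S : Split P U p) (ho : Opp P U) {u : G} (hu : u ∈ U) (h1 : u ≠ 1) : st P u = 0 := by
  obtain ⟨n, hn, htop⟩ := exists_top (P := P) coe_gens_subset
  rw [st_eq_phi, (phi_U S coe_gens_subset (radNormal_gens S ho) hn htop hu).2
    (by rwa [rad_eq_bot S ho hn htop, Subgroup.mem_bot]), Int.cast_zero]

theorem mul_mem_dc_exists {L : Set G} (hL : L ⊆ P.S) {m y z : G} (hm : m ∈ P.N) (hy : y ∈ dc P m)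
    (hz : z ∈ P.parabolic L) : ∃ c ∈ Subgroup.closure L, y * z ∈ dc P (m * c) := by
  obtain ⟨w, hw, hlow⟩ := exists_low hL hm
  have hwN := mem_N_of_mem hL hw
  obtain ⟨a, ha, b, hb, rfl⟩ := mem_dc.1 hy
  obtain ⟨c, hc, hzc⟩ := (parabolic_mem_iff P hL).1
    (show w⁻¹ * b * z ∈ P.parabolic L from mul_mem (mul_mem (Subgroup.mem_sup_right (inv_mem hw))
      (Subgroup.mem_sup_left hb)) hz)
  refine ⟨w * c, mul_mem hw hc, ?_⟩
  have h1 := mul_mem_dc_of_add (mul_mem hm hwN) (mem_N_of_mem hL hc) (len_mul_of_low hL (mul_mem hm hwN) hlow hc)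
    (mem_dc.2 ⟨a, ha, 1, one_mem _, rfl⟩) hzc
  rw [mul_assoc] at h1
  convert h1 using 1
  group

/-- The cells. -/
abbrev Cl (P : Cfsg.BNPair G) := {D : Set G // ∃ n ∈ P.N, dc P n = D}

/-- A representative of a cell. -/
noncomputable def clRep (D : Cl P) : G := D.2.choose

theorem clRep_mem (D : Cl P) : clRep D ∈ P.N := D.2.choose_spec.1

theorem dc_clRep (D : Cl P) : dc P (clRep D) = D.1 := D.2.choose_spec.2

theorem cl_ext {D D' : Cl P} (h : Cong P (clRep D) (clRep D')) : D = D' :=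
  Subtype.ext (by rw [← dc_clRep, ← dc_clRep, h.dc_eq])

/-- Shortest in its double coset. -/
def BiLow (P : Cfsg.BNPair G) (K L : Set G) (n : G) : Prop := Low P K n⁻¹ ∧ Low P L n

theorem biLow_congr {K L : Set G} (hK : K ⊆ P.S) (hL : L ⊆ P.S) {n n' : G} (hn : n ∈ P.N) (hc : Cong P n n')
    (h : BiLow P K L n) : BiLow P K L n' :=
  ⟨low_congr hK (inv_mem hn) (hc.inv hn) h.1, low_congr hL hn hc h.2⟩

theorem exists_biLow {K L : Set G} (hK : K ⊆ P.S) (hL : L ⊆ P.S) {n : G} (hn : n ∈ P.N) :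
    ∃ a ∈ Subgroup.closure K, ∃ b ∈ Subgroup.closure L, BiLow P K L (a * n * b) := by
  let ks := {k | ∃ a ∈ Subgroup.closure K, ∃ b ∈ Subgroup.closure L, len P (a * n * b) = k}
  obtain ⟨a, ha, b, hb, he⟩ : sInf ks ∈ ks := Nat.sInf_mem ⟨_, 1, one_mem _, 1, one_mem _, rfl⟩
  have hm : a * n * b ∈ P.N := mul_mem (mul_mem (mem_N_of_mem hK ha) hn) (mem_N_of_mem hL hb)
  refine ⟨a, ha, b, hb, fun s hs => ?_, fun s hs => ?_⟩
  · refine lt_of_le_of_ne ?_ (Ne.symm (len_mul_right_ne (hK hs) (inv_mem hm)))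
    rw [len_inv hm, show (a * n * b)⁻¹ * s = (s⁻¹ * a * n * b)⁻¹ by group, len_inv
      (mul_mem (mul_mem (mul_mem (inv_mem (P.subset (hK hs))) (mem_N_of_mem hK ha)) hn) (mem_N_of_mem hL hb)), he]
    exact Nat.sInf_le ⟨s⁻¹ * a, mul_mem (inv_mem (Subgroup.subset_closure hs)) ha, b, hb, rfl⟩
  · refine lt_of_le_of_ne ?_ (Ne.symm (len_mul_right_ne (hL hs) hm))
    rw [he, show a * n * b * s = a * n * (b * s) by group]
    exact Nat.sInf_le ⟨a, ha, b * s, mul_mem hb (Subgroup.subset_closure hs), rfl⟩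

/-- Orbits on pairs of cosets are indexed by cells shortest in their double coset. -/
theorem card_orbits {K L : Set G} (hK : K ⊆ P.S) (hL : L ⊆ P.S) :
    Nat.card (MulAction.orbitRel.Quotient G ((G ⧸ P.parabolic K) × (G ⧸ P.parabolic L))) =
      Nat.card {D : Cl P // BiLow P K L (clRep D)} := by
  refine (Nat.card_eq_of_bijective (fun D : {D : Cl P // BiLow P K L (clRep D)} =>
    (Quotient.mk'' ((((1 : G) : G ⧸ P.parabolic K)), ((clRep D.1 : G) : G ⧸ P.parabolic L)) :
      MulAction.orbitRel.Quotient G ((G ⧸ P.parabolic K) × (G ⧸ P.parabolic L)))) ⟨?_, ?_⟩).symm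
  · rintro ⟨D, hD⟩ ⟨D', hD'⟩ e
    have h := MulAction.orbitRel_apply.1 (Quotient.exact' e)
    obtain ⟨g, hg⟩ := MulAction.mem_orbit_iff.1 h
    rw [Prod.smul_mk, Prod.mk.injEq, MulAction.Quotient.smul_mk, MulAction.Quotient.smul_mk, smul_eq_mul,
      smul_eq_mul, mul_one, QuotientGroup.eq, QuotientGroup.eq, mul_one] at hg
    obtain ⟨h1, h2⟩ := hg
    rw [Subgroup.inv_mem_iff] at h1
    obtain ⟨a, ha, hga⟩ := (parabolic_mem_iff P hK).1 h1
    have hn' := clRep_mem D'
    have haN := mem_N_of_mem hK ha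
    have hadd : len P (a * clRep D') = len P a + len P (clRep D') := by
      have h3 := len_mul_of_low hK (inv_mem hn') hD'.1 (inv_mem ha)
      rw [← mul_inv_rev, len_inv (mul_mem haN hn'), len_inv hn', len_inv haN] at h3
      omega
    have h3 := mul_mem_dc_of_add haN hn' hadd hga (self_mem_dc _)
    obtain ⟨c, hc, h4⟩ := mul_mem_dc_exists hL (mul_mem haN hn') h3 h2
    rw [mul_inv_cancel_left] at h4
    have h5 := cong_of_mem_dc (clRep_mem D) (mul_mem (mul_mem haN hn') (mem_N_of_mem hL hc)) h4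
    exact Subtype.ext (cl_ext (bilow_unique hK hL hn' (clRep_mem D) hD'.1 hD'.2 hD.1 hD.2 ha hc h5).symm)
  · intro q
    induction q using Quotient.inductionOn' with
    | _ z =>
      obtain ⟨x, y⟩ := z
      obtain ⟨x, rfl⟩ := QuotientGroup.mk_surjective x
      obtain ⟨y, rfl⟩ := QuotientGroup.mk_surjective y
      obtain ⟨n, hn, hxy⟩ := bruhat P (x⁻¹ * y)
      obtain ⟨b₁, hb₁, b₂, hb₂, e⟩ := mem_dc.1 hxy
      obtain ⟨a, ha, b, hb, hlow⟩ := exists_biLow hK hL hn
      have hm : a * n * b ∈ P.N := mul_mem (mul_mem (mem_N_of_mem hK ha) hn) (mem_N_of_mem hL hb)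
      let D : Cl P := ⟨dc P (a * n * b), _, hm, rfl⟩
      have hc : Cong P (a * n * b) (clRep D) := cong_of_dc_eq hm (clRep_mem D) (dc_clRep D).symm
      refine ⟨⟨D, biLow_congr hK hL hm hc hlow⟩, Quotient.sound' ?_⟩
      refine MulAction.orbitRel_apply.2 (MulAction.mem_orbit_iff.2 ⟨a * b₁⁻¹ * x⁻¹, ?_⟩)
      rw [Prod.smul_mk, MulAction.Quotient.smul_mk, MulAction.Quotient.smul_mk, smul_eq_mul, smul_eq_mul]
      refine Prod.ext (QuotientGroup.eq.2 ?_) (QuotientGroup.eq.2 ?_)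
      · have e1 : (a * b₁⁻¹ * x⁻¹ * x)⁻¹ * 1 = b₁ * a⁻¹ := by group
        rw [e1]
        exact mul_mem (Subgroup.mem_sup_left hb₁) (Subgroup.mem_sup_right (inv_mem ha))
      · have e2 : (a * b₁⁻¹ * x⁻¹ * y)⁻¹ * clRep D = b₂⁻¹ * b * ((a * n * b)⁻¹ * clRep D) := by
          rw [show a * b₁⁻¹ * x⁻¹ * y = a * b₁⁻¹ * (x⁻¹ * y) by group, e]
          group
        rw [e2]
        exact mul_mem (mul_mem (Subgroup.mem_sup_left (inv_mem hb₂)) (Subgroup.mem_sup_right hb))
          (Subgroup.mem_sup_left hc.1)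

open scoped Classical in
theorem alt_biLow {K : Finset G} (hK : (K : Set G) ⊆ P.S) :
    (∑ L ∈ (gens P).powerset, (-1 : ℤ) ^ L.card * Nat.card {D : Cl P // BiLow P (K : Set G) (L : Set G) (clRep D)}) =
      if K = ∅ then 1 else 0 := by
  classical
  haveI : Fintype {D : Cl P // Low P (K : Set G) (clRep D)⁻¹} := Fintype.ofFinite _
  have h := sum_indicator (ι := {D : Cl P // Low P (K : Set G) (clRep D)⁻¹}) (gens P)
    (fun D s => len P (clRep D.1) < len P (clRep D.1 * s))
  refine Eq.trans (Eq.trans (Finset.sum_congr rfl fun L _ => ?_) h) ?_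
  · congr 2
    refine Nat.card_congr ?_
    exact { toFun := fun D => ⟨⟨D.1, D.2.1⟩, fun s hs => D.2.2 s hs⟩
            invFun := fun D => ⟨D.1.1, D.1.2, fun s hs => D.2 s hs⟩ }
  obtain ⟨n, hn, htop⟩ := exists_top (P := P) coe_gens_subset
  have hnN := mem_N_of_mem coe_gens_subset hn
  let D₀ : Cl P := ⟨dc P n, n, hnN, rfl⟩
  have hc₀ : Cong P n (clRep D₀) := cong_of_dc_eq hnN (clRep_mem D₀) (dc_clRep D₀).symm
  have huniq : ∀ D : Cl P, (∀ s ∈ gens P, ¬ len P (clRep D) < len P (clRep D * s)) → D = D₀ := by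
    intro D hD
    obtain ⟨m, hm, hc⟩ := exists_closure_cong (clRep_mem D)
    rw [← coe_gens (P := P)] at hm
    have htopD : Top P (gens P : Set G) (clRep D) := fun s hs =>
      (not_low_iff coe_gens_subset (clRep_mem D) hs).1 (hD s hs)
    exact cl_ext ((hc.trans (top_unique coe_gens_subset hm hn (top_congr coe_gens_subset (clRep_mem D) hc htopD) htop)).trans hc₀)
  by_cases hKe : K = ∅
  · subst hKe
    rw [if_pos rfl, Nat.cast_eq_one, Nat.card_eq_one_iff_unique]
    refine ⟨⟨fun x y => ?_⟩, ⟨⟨D₀, fun s hs => absurd hs (by simp)⟩, fun s hs => ?_⟩⟩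
    · exact Subtype.ext (Subtype.ext ((huniq _ x.2).trans (huniq _ y.2).symm))
    · exact Nat.not_lt.2 (top_congr coe_gens_subset hnN hc₀ htop s hs).le
  · rw [if_neg hKe, Nat.cast_eq_zero, Nat.card_eq_zero]
    left
    refine ⟨fun x => ?_⟩
    obtain ⟨s, hs⟩ := Finset.nonempty_iff_ne_empty.2 hKe
    have hsS := hK hs
    have hsN := P.subset hsS
    have e := huniq _ x.2
    have hlow := x.1.2
    rw [e] at hlow
    have h1 := hlow s hs
    have hn0 := clRep_mem D₀
    rw [len_inv hn0, show (clRep D₀)⁻¹ * s = (s⁻¹ * clRep D₀)⁻¹ by group,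
      len_inv (mul_mem (inv_mem hsN) hn0), ← len_congr hnN hc₀,
      ← len_congr (mul_mem (inv_mem hsN) hnN) (hc₀.mul_left s⁻¹)] at h1
    obtain ⟨v, hv, hvc⟩ := exists_closure_cong (show n⁻¹ * (s⁻¹ * n) ∈ P.N from
      mul_mem (inv_mem hnN) (mul_mem (inv_mem hsN) hnN))
    have h2 := hvc.mul_left n
    rw [mul_inv_cancel_left] at h2
    rw [← coe_gens (P := P)] at hv
    have h3 := len_mul_of_top coe_gens_subset hnN htop hv
    rw [← len_congr (mul_mem (inv_mem hsN) hnN) h2] at h3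
    omega

theorem fpc_eq_permChar (H : Subgroup G) : Cfsg.fixedPointCharacter H = permChar G (G ⧸ H) := rfl

theorem conj_fpc (H : Subgroup G) (g : G) :
    conj (Cfsg.fixedPointCharacter H g) = Cfsg.fixedPointCharacter H g := by
  rw [Cfsg.fixedPointCharacter, Complex.conj_natCast]

theorem classInner_fpc [Fintype G] (H K : Subgroup G) :
    Cfsg.classInner (Cfsg.fixedPointCharacter H) (Cfsg.fixedPointCharacter K) =
      (Nat.card (MulAction.orbitRel.Quotient G ((G ⧸ K) × (G ⧸ H))) : ℂ) := by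
  rw [← classInner_permChar_one, classInner_def, classInner_def]
  congr 1
  refine Finset.sum_congr rfl fun g _ => ?_
  rw [conj_fpc, map_one, mul_one, Cfsg.fixedPointCharacter, Cfsg.fixedPointCharacter, permChar, ← Nat.cast_mul,
    mul_comm, ← Nat.card_prod]
  congr 1
  refine Nat.card_congr ?_
  exact { toFun := fun x => ⟨(x.1.1, x.2.1), MulAction.mem_fixedBy.2 (Prod.ext x.1.2 x.2.2)⟩
          invFun := fun z => (⟨z.1.1, congrArg Prod.fst z.2⟩, ⟨z.1.2, congrArg Prod.snd z.2⟩) }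

theorem st_eq_sum : st P = ∑ K ∈ (gens P).powerset,
    ((-1 : ℂ) ^ K.card) • Cfsg.fixedPointCharacter (P.parabolic (K : Set G)) := by
  funext g
  simp [st, Finset.sum_apply]

open scoped Classical in
theorem classInner_st_fpc [Fintype G] {K : Finset G} (hK : (K : Set G) ⊆ P.S) :
    Cfsg.classInner (st P) (Cfsg.fixedPointCharacter (P.parabolic (K : Set G))) =
      if K = ∅ then 1 else 0 := by
  rw [st_eq_sum, classInner_sum_left]
  have h := congrArg (Int.cast : ℤ → ℂ) (alt_biLow (P := P) hK)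
  push_cast at h
  rw [← h]
  refine Finset.sum_congr rfl fun L hL => ?_
  rw [classInner_smul_left, classInner_fpc,
    card_orbits hK ((Finset.coe_subset.2 (Finset.mem_powerset.1 hL)).trans coe_gens_subset)]

theorem classInner_st_self [Fintype G] : Cfsg.classInner (st P) (st P) = 1 := by
  conv_lhs => arg 2; rw [st_eq_sum]
  rw [classInner_sum_right, Finset.sum_eq_single ∅]
  · rw [classInner_smul_right, classInner_st_fpc (by simp), if_pos rfl]
    simp
  · intro K hK hne
    rw [classInner_smul_right, classInner_st_fpc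
      ((Finset.coe_subset.2 (Finset.mem_powerset.1 hK)).trans coe_gens_subset), if_neg hne, mul_zero]
  · simp

theorem isGeneralized_st : Cfsg.IsGeneralizedCharacter G (st P) := by
  rw [st_eq_sum]
  refine IsGeneralizedCharacter.sum _ _ fun K _ => ?_
  have h := IsGeneralizedCharacter.zsmul
    (IsCharacter.isGeneralized (isCharacter_permChar (G := G) (G ⧸ P.parabolic (K : Set G)))) ((-1) ^ K.card)
  rw [← fpc_eq_permChar] at h
  convert h using 1
  funext g
  simp

theorem isIrr_st (S : Split P U p) (ho : Opp P U) : Cfsg.IsIrrCharacter G (st P) := by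
  haveI := Fintype.ofFinite G
  obtain h | h := isIrr_or_neg_of_norm_one isGeneralized_st (classInner_st_self (P := P))
  · exact h
  · exfalso
    have h1 := Cfsg.Lib.Chars.IsIrrCharacter.apply_one h
    obtain ⟨d, hd⟩ : ∃ d : ℕ, (-st P) 1 = (d : ℂ) := by simpa using ⟨_, IsCharacter.apply_one_eq_deg (isCharacter_of_irr h)⟩
    rw [Pi.neg_apply, st_one S ho] at hd
    have h2 : ((Nat.card ↥U + d : ℕ) : ℂ) = 0 := by push_cast; linear_combination -hd
    have h3 : Nat.card ↥U + d = 0 := by exact_mod_cast h2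
    have : 0 < Nat.card ↥U := Nat.card_pos
    omega

end Cfsg.Lib.Steinberg
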