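import Cfsg.Agent.Steinberg.Cells

/-! The alternating sum of parabolic permutation characters on the Borel subgroup; counting identity. -/

set_option autoImplicit false

namespace Cfsg.Lib.Steinberg

open Cfsg.Lib.BN

variable {G : Type*} [Group G] [Finite G] {P : Cfsg.BNPair G}

/-- A (B,N)-pair with a normal `p`-subgroup `U` of `B` complemented by `B ∩ N` of order prime to `p`. -/
structure Split (P : Cfsg.BNPair G) (U : Subgroup G) (p : ℕ) : Prop where
  prime : p.Prime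
  le : U ≤ P.B
  normal : ∀ b ∈ P.B, ∀ u ∈ U, b * u * b⁻¹ ∈ U
  decomp : ∀ b ∈ P.B, ∃ u ∈ U, ∃ h ∈ P.B ⊓ P.N, b = u * h
  isPGroup : IsPGroup p U
  coprime : ¬ p ∣ Nat.card ↥(P.B ⊓ P.N)

/-- Cosets of the parabolic of `K` inside the parabolic of `J` fixed by `g`. -/
def FixK (P : Cfsg.BNPair G) (J K : Set G) (g : G) : Set (G ⧸ P.parabolic K) :=
  {c | g • c = c ∧ ∃ q ∈ P.parabolic J, (q : G ⧸ P.parabolic K) = c}

/-- Points inside the parabolic of `J` fixed by `g`. -/
def Pts (P : Cfsg.BNPair G) (J : Set G) (g : G) : Set (Pt P) := {x | g • x = x ∧ x.out ∈ P.parabolic J}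

/-- The alternating sum of the permutation characters inside the parabolic of `J`. -/
noncomputable def phi (P : Cfsg.BNPair G) (J : Finset G) (g : G) : ℤ :=
  ∑ K ∈ J.powerset, (-1 : ℤ) ^ K.card * Nat.card ↥(FixK P (J : Set G) (K : Set G) g)

/-- Points with top cell. -/
def TopPts (P : Cfsg.BNPair G) (J : Set G) : Set (Pt P) := {x | x.out ∈ P.parabolic J ∧ Top P J (cell x)}

theorem card_fixK {J K : Set G} (hJ : J ⊆ P.S) (hKJ : K ⊆ J) {g : G} (hg : g ∈ P.B) :
    Nat.card ↥(FixK P J K g) = Nat.card ↥{x ∈ Pts P J g | Low P K (cell x)} := by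
  refine (Nat.card_eq_of_bijective (fun x : ↥{x ∈ Pts P J g | Low P K (cell x)} =>
    (⟨toK K x.1, ?_, ?_⟩ : ↥(FixK P J K g))) ⟨?_, ?_⟩).symm
  · rw [← toK_smul, x.2.1.1]
  · exact ⟨_, x.2.1.2, rfl⟩
  · exact fun x y e => Subtype.ext (low_inj (hKJ.trans hJ) x.2.2 y.2.2 (congrArg Subtype.val e))
  · rintro ⟨c, hc, q, hq, rfl⟩
    obtain ⟨x, hx, hlow, e⟩ := low_surj hJ hKJ hq
    have hfix : g • x = x := by
      refine low_inj (hKJ.trans hJ) ?_ hlow (by rw [toK_smul, e, hc])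
      exact low_congr (hKJ.trans hJ) (cell_mem x) (cong_cell_smul hg x).symm hlow
    exact ⟨⟨x, ⟨hfix, hx⟩, hlow⟩, Subtype.ext e⟩

theorem sum_indicator {ι : Type*} [Fintype ι] (J : Finset G) (D : ι → G → Prop) :
    (∑ K ∈ J.powerset, (-1 : ℤ) ^ K.card * Nat.card {x : ι // ∀ s ∈ K, D x s}) =
      Nat.card {x : ι // ∀ s ∈ J, ¬ D x s} := by
  classical
  simp only [Nat.card_eq_fintype_card, Fintype.card_subtype]
  rw [Finset.sum_congr rfl (fun K _ => by
    rw [Finset.card_filter, Nat.cast_sum, Finset.mul_sum]), Finset.sum_comm, Finset.card_filter, Nat.cast_sum]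
  refine Finset.sum_congr rfl fun x _ => ?_
  simp only [Nat.cast_ite, Nat.cast_one, Nat.cast_zero, mul_ite, mul_one, mul_zero]
  rw [← Finset.sum_filter]
  have e : J.powerset.filter (fun K => ∀ s ∈ K, D x s) = (J.filter (D x)).powerset := by
    ext K
    simp only [Finset.mem_filter, Finset.mem_powerset, Finset.subset_iff, Finset.mem_filter]
    exact ⟨fun h s hs => ⟨h.1 hs, h.2 s hs⟩, fun h => ⟨fun s hs => (h hs).1, fun s hs => (h hs).2⟩⟩
  rw [e, Finset.sum_powerset_neg_one_pow_card]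
  simp only [Finset.filter_eq_empty_iff]

theorem phi_eq {J : Finset G} (hJ : (J : Set G) ⊆ P.S) {g : G} (hg : g ∈ P.B) :
    phi P J g = Nat.card ↥{x ∈ TopPts P (J : Set G) | g • x = x} := by
  classical
  haveI := Fintype.ofFinite ↥(Pts P (J : Set G) g)
  have h := sum_indicator (ι := ↥(Pts P (J : Set G) g)) J (fun x s => len P (cell x.1) < len P (cell x.1 * s))
  rw [phi]
  convert h using 1
  · refine Finset.sum_congr rfl fun K hK => ?_
    rw [card_fixK hJ (Finset.coe_subset.2 (Finset.mem_powerset.1 hK)) hg]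
    congr 2
    exact Nat.card_congr
      { toFun := fun x => ⟨⟨x.1, x.2.1⟩, fun s hs => x.2.2 s hs⟩
        invFun := fun x => ⟨x.1.1, x.1.2, fun s hs => x.2 s hs⟩ }
  · congr 1
    exact Nat.card_congr
      { toFun := fun x => ⟨⟨x.1, x.2.2, x.2.1.1⟩, fun s hs => Nat.not_lt.2 (x.2.1.2 s hs).le⟩
        invFun := fun x => ⟨x.1.1, ⟨x.1.2.2, fun s hs => (not_low_iff hJ (cell_mem _) hs).1 (x.2 s hs)⟩, x.1.2.1⟩ }

theorem pts_one (J : Set G) : Pts P J 1 = {x | x.out ∈ P.parabolic J} := by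
  ext x; simp [Pts]

theorem one_out_mem (J : Set G) : ((1 : G) : Pt P).out ∈ P.parabolic J :=
  out_mem_parabolic_iff.2 (one_mem _)

theorem eq_one_of_low {J : Set G} (hJ : J ⊆ P.S) {x : Pt P} (hx : x.out ∈ P.parabolic J)
    (h : Low P J (cell x)) : x = ((1 : G) : Pt P) := by
  refine low_inj hJ h ?_ ?_
  · exact low_congr hJ (one_mem _) (cong_cell (one_mem _) (self_mem_dc 1)).symm (low_one hJ)
  · rw [toK_mk, toK, QuotientGroup.eq]
    simpa using hx

/-- The points all of whose descents contain `K` fibre over the cosets of the parabolic of `K`. -/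
theorem card_desc {J K : Set G} (hJ : J ⊆ P.S) (hKJ : K ⊆ J) :
    Nat.card ↥(FixK P J K 1) * Nat.card ↥(TopPts P K) =
      Nat.card ↥{x ∈ Pts P J 1 | Top P K (cell x)} := by
  have hK := hKJ.trans hJ
  rw [card_fixK hJ hKJ (one_mem _), ← Nat.card_prod]
  have hcell : ∀ (x : ↥{x ∈ Pts P J 1 | Low P K (cell x)}) (t : ↥(TopPts P K)),
      ∃ v ∈ Subgroup.closure K, Top P K v ∧ Cong P (cell ((x.1.out * t.1.out : G) : Pt P)) (cell x.1 * v) := by
    intro x t
    obtain ⟨v, hv, hc, htv⟩ := exists_cell_mem hK t.2.1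
    have hvN := mem_N_of_mem hK hv
    refine ⟨v, hv, top_congr hK (cell_mem _) hc t.2.2, cong_cell (mul_mem (cell_mem _) hvN) ?_⟩
    exact mul_mem_dc_of_add (cell_mem _) hvN (len_mul_of_low hK (cell_mem _) x.2.2 hv) (mem_dc_cell _) htv
  refine Nat.card_eq_of_bijective (fun a : ↥{x ∈ Pts P J 1 | Low P K (cell x)} × ↥(TopPts P K) =>
    (⟨((a.1.1.out * a.2.1.out : G) : Pt P), ⟨one_smul _ _, ?_⟩, ?_⟩ :
      ↥{x ∈ Pts P J 1 | Top P K (cell x)})) ⟨?_, ?_⟩
  · exact out_mem_parabolic_iff.2 (mul_mem a.1.2.1.2 (parabolic_mono hKJ a.2.2.1))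
  · obtain ⟨v, hv, htv, hc⟩ := hcell a.1 a.2
    have hvN := mem_N_of_mem hK hv
    refine top_congr hK (mul_mem (cell_mem _) hvN) hc.symm fun s hs => ?_
    rw [mul_assoc, len_mul_of_low hK (cell_mem _) a.1.2.2 (mul_mem hv (Subgroup.subset_closure hs)),
      len_mul_of_low hK (cell_mem _) a.1.2.2 hv]
    have := htv s hs
    omega
  · rintro ⟨x, t⟩ ⟨x', t'⟩ e
    have e' : ((x.1.out * t.1.out : G) : Pt P) = ((x'.1.out * t'.1.out : G) : Pt P) := congrArg Subtype.val e
    have h1 : toK K x.1 = toK K x'.1 := by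
      have := congrArg (toK K) e'
      rwa [toK_mk, toK_mk, QuotientGroup.mk_mul_of_mem _ t.2.1, QuotientGroup.mk_mul_of_mem _ t'.2.1] at this
    obtain rfl : x = x' := Subtype.ext (low_inj hK x.2.2 x'.2.2 h1)
    have h2 : x.1.out • (((t.1.out : G)) : Pt P) = x.1.out • (((t'.1.out : G)) : Pt P) := by
      rwa [MulAction.Quotient.smul_mk, MulAction.Quotient.smul_mk]
    rw [smul_left_cancel_iff, QuotientGroup.out_eq', QuotientGroup.out_eq'] at h2
    rw [Subtype.ext h2]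
  · rintro ⟨z, ⟨-, hzJ⟩, hz⟩
    obtain ⟨x, hx, hlow, e⟩ := low_surj hJ hKJ hzJ
    have hp : x.out⁻¹ * z.out ∈ P.parabolic K := by
      rwa [toK, QuotientGroup.eq] at e
    refine ⟨⟨⟨x, ⟨one_smul _ _, hx⟩, hlow⟩, ⟨((x.out⁻¹ * z.out : G) : Pt P), out_mem_parabolic_iff.2 hp, ?_⟩⟩, ?_⟩
    · obtain ⟨v, hv, hpv⟩ := (parabolic_mem_iff P hK).1 hp
      have hvN := mem_N_of_mem hK hv
      have h1 := mul_mem_dc_of_add (cell_mem x) hvN (len_mul_of_low hK (cell_mem x) hlow hv) (mem_dc_cell x) hpv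
      rw [mul_inv_cancel_left] at h1
      have hc : Cong P (cell z) (cell x * v) := cong_nrep (mul_mem (cell_mem x) hvN) h1
      refine top_congr hK hvN (cong_cell hvN hpv).symm fun s hs => ?_
      have h3 := top_congr hK (cell_mem z) hc hz s hs
      rw [mul_assoc, len_mul_of_low hK (cell_mem x) hlow (mul_mem hv (Subgroup.subset_closure hs)),
        len_mul_of_low hK (cell_mem x) hlow hv] at h3
      omega
    · refine Subtype.ext ?_
      obtain ⟨b, hb, eb⟩ := exists_out (P := P) (x.out⁻¹ * z.out)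
      show ((x.out * ((x.out⁻¹ * z.out : G) : Pt P).out : G) : Pt P) = z
      rw [eb, ← mul_assoc, mul_inv_cancel_left, QuotientGroup.mk_mul_of_mem _ hb, QuotientGroup.out_eq']

/-- The alternating identity behind Steinberg's count. -/
theorem alt_identity {J : Finset G} (hJ : (J : Set G) ⊆ P.S) :
    (∑ K ∈ J.powerset, (-1 : ℤ) ^ K.card *
      ((Nat.card ↥(FixK P (J : Set G) (K : Set G) 1) : ℤ) * Nat.card ↥(TopPts P (K : Set G)))) = 1 := by
  classical
  haveI := Fintype.ofFinite ↥(Pts P (J : Set G) (1 : G))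
  have h := sum_indicator (ι := ↥(Pts P (J : Set G) (1 : G))) J (fun x s => len P (cell x.1 * s) < len P (cell x.1))
  have h1 : Nat.card {x : ↥(Pts P (J : Set G) (1 : G)) // ∀ s ∈ J, ¬ len P (cell x.1 * s) < len P (cell x.1)} = 1 := by
    rw [Nat.card_eq_one_iff_unique]
    refine ⟨⟨fun x y => ?_⟩, ⟨⟨((1 : G) : Pt P), one_smul _ _, one_out_mem _⟩, fun s hs => ?_⟩⟩
    · have hl : ∀ z : {x : ↥(Pts P (J : Set G) (1 : G)) // ∀ s ∈ J, ¬ len P (cell x.1 * s) < len P (cell x.1)},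
          z.1.1 = ((1 : G) : Pt P) := fun z => eq_one_of_low hJ z.1.2.2 fun s hs => by
        have := len_mul_right_ne (hJ hs) (cell_mem z.1.1)
        have := z.2 s hs
        omega
      exact Subtype.ext (Subtype.ext ((hl x).trans (hl y).symm))
    · have := low_congr hJ (one_mem _) (cong_cell (one_mem _) (self_mem_dc 1)).symm (low_one hJ) s hs
      simp only
      omega
  rw [h1, Nat.cast_one] at h
  refine (Finset.sum_congr rfl fun K hK => ?_).trans h
  rw [← Nat.cast_mul, card_desc hJ (Finset.coe_subset.2 (Finset.mem_powerset.1 hK))]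
  congr 2
  refine Nat.card_congr ?_
  exact
    { toFun := fun x => ⟨⟨x.1, x.2.1⟩, fun s hs => x.2.2 s hs⟩
      invFun := fun x => ⟨x.1.1, x.1.2, fun s hs => x.2 s hs⟩ }

end Cfsg.Lib.Steinberg
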