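import Cfsg.Agent.Steinberg.Levi

/-!
# The Steinberg character at semisimple elements

The number of `p`-elements centralising a `p`-regular `s` is the square of the Steinberg character at
`s`, and that value is up to sign the `p`-part of the centraliser order.
-/

set_option autoImplicit false
set_option linter.unusedSectionVars false

namespace Cfsg.Lib.Steinberg

open Cfsg.Lib.BN Cfsg.Lib.Chars
open scoped Pointwise

/-- A character averaging to zero over a subgroup does so over every coset. -/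
theorem sum_coset_eq_zero {H : Type*} [Group H] [Finite H] {χ : H → ℂ} (hχ : Cfsg.IsCharacter H χ)
    (R : Subgroup H) [Fintype R] (h0 : ∑ v : R, χ v = 0) (g : H) : ∑ v : R, χ (g * v) = 0 := by
  obtain ⟨n, ρ, rfl⟩ := hχ
  set T : Module.End ℂ _ := ∑ v : R, ρ v with hT
  set E : Module.End ℂ _ := ((Fintype.card R : ℂ)⁻¹) • T with hE
  have hTT : T * T = (Fintype.card R : ℂ) • T := by
    rw [hT, Finset.sum_mul]
    have : ∀ v : R, ρ v * T = T := fun v => by
      rw [hT, Finset.mul_sum]
      refine Fintype.sum_equiv (Equiv.mulLeft v) _ _ fun w => ?_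
      rw [← map_mul]; rfl
    rw [Finset.sum_congr rfl fun v _ => this v, Finset.sum_const, Finset.card_univ, Nat.cast_smul_eq_nsmul]
  have hne : (Fintype.card R : ℂ) ≠ 0 := by exact_mod_cast Fintype.card_ne_zero
  have hEE : E * E = E := by
    rw [hE, smul_mul_smul_comm, hTT, smul_smul]
    congr 1
    field_simp
  have hproj : LinearMap.IsProj (LinearMap.range E) E :=
    ⟨fun x => LinearMap.mem_range_self E x, fun x hx => by
      obtain ⟨y, rfl⟩ := hx
      exact LinearMap.congr_fun hEE y⟩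
  have htr : LinearMap.trace ℂ _ E = 0 := by
    rw [hE, map_smul, hT, map_sum]
    rw [show ∑ v : R, LinearMap.trace ℂ _ (ρ v) = 0 from h0, smul_zero]
  rw [hproj.trace] at htr
  have hE0 : E = 0 := by
    have hbot : LinearMap.range E = ⊥ := Submodule.finrank_eq_zero.1 (by exact_mod_cast htr)
    exact LinearMap.range_eq_bot.1 hbot
  have hT0 : T = 0 := by
    rw [hE, smul_eq_zero] at hE0
    exact hE0.resolve_left (inv_ne_zero hne)
  calc ∑ v : R, ρ.character (g * v) = LinearMap.trace ℂ _ (ρ g * T) := by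
        rw [hT, Finset.mul_sum, map_sum]
        exact Finset.sum_congr rfl fun v _ => by rw [← map_mul]; rfl
    _ = 0 := by rw [hT0, mul_zero, map_zero]

variable {G : Type*} [Group G] [Finite G] {p : ℕ}

/-- The exponent projecting to the `p`-regular part. -/
theorem exists_regular_exp (hp : p.Prime) : ∃ k : ℕ,
    (∀ x : G, ¬ p ∣ orderOf x → x ^ k = x) ∧ (∀ x : G, (∃ e, orderOf x = p ^ e) → x ^ k = 1) ∧
    ∀ x : G, ¬ p ∣ orderOf (x ^ k) := by
  set a := p ^ (Nat.card G).factorization p with ha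
  set b := Nat.card G / p ^ (Nat.card G).factorization p with hb
  have hab : a * b = Nat.card G := Nat.ordProj_mul_ordCompl_eq_self _ _
  have hcop : Nat.Coprime a b := (Nat.coprime_ordCompl hp Nat.card_pos.ne').pow_left _
  obtain ⟨k, hk1, hk2⟩ := Nat.chineseRemainder hcop 0 1
  refine ⟨k, fun x hx => ?_, fun x hx => ?_, fun x => ?_⟩
  · have hdvd : orderOf x ∣ b := (((hp.coprime_iff_not_dvd.2 hx).pow_left _).symm).dvd_of_dvd_mul_left
      (hab ▸ orderOf_dvd_natCard x)
    conv_rhs => rw [← pow_one x]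
    exact pow_eq_pow_iff_modEq.2 (hk2.of_dvd hdvd)
  · obtain ⟨e, he⟩ := hx
    refine orderOf_dvd_iff_pow_eq_one.1 ((?_ : orderOf x ∣ a).trans (Nat.modEq_zero_iff_dvd.1 hk1))
    rw [he, ha]
    refine pow_dvd_pow p ?_
    rw [← hp.pow_dvd_iff_le_factorization Nat.card_pos.ne', ← he]
    exact orderOf_dvd_natCard x
  · intro hd
    have h1 : orderOf (x ^ k) ∣ b := by
      refine orderOf_dvd_of_pow_eq_one ?_
      rw [← pow_mul]
      refine orderOf_dvd_iff_pow_eq_one.1 ((orderOf_dvd_natCard x).trans ?_)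
      rw [← hab]
      exact mul_dvd_mul_right (Nat.modEq_zero_iff_dvd.1 hk1) b
    exact Nat.not_dvd_ordCompl hp Nat.card_pos.ne' (hd.trans h1)

theorem pow_mem_coset {R : Subgroup G} {s : G} (hs : ∀ v ∈ R, s⁻¹ * v * s ∈ R) (m : ℕ) {v : G}
    (hv : v ∈ R) : ∃ w ∈ R, (s * v) ^ m = s ^ m * w := by
  induction m with
  | zero => exact ⟨1, one_mem R, by simp⟩
  | succ m ih =>
    obtain ⟨w, hw, e⟩ := ih
    refine ⟨s⁻¹ * w * s * v, mul_mem (hs w hw) hv, ?_⟩
    rw [pow_succ, e, pow_succ]; group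

/-- Sum over a coset of a normalised `p`-subgroup of a function living on regular elements. -/
theorem sum_coset_regular (hp : p.Prime) {f : G → ℂ} (hf : Cfsg.IsClassFunction G f)
    (hf0 : ∀ x, p ∣ orderOf x → f x = 0) {R : Subgroup G} [Fintype R] (hR : IsPGroup p R) {s : G}
    (hsR : ∀ v ∈ R, s⁻¹ * v * s ∈ R) (hs : ¬ p ∣ orderOf s) :
    (Nat.card {v : R // Commute s (v : G)} : ℂ) * ∑ v : R, f (s * v) = (Nat.card R : ℂ) * f s := by
  classical
  haveI := Fact.mk hp
  obtain ⟨k, hreg, hpel, hkreg⟩ := exists_regular_exp (G := G) hp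
  have hRel : ∀ v : R, ∃ e, orderOf (v : G) = p ^ e := fun v => by
    obtain ⟨e, he⟩ := IsPGroup.iff_orderOf.1 hR v
    exact ⟨e, by rw [Subgroup.orderOf_coe]; exact he⟩
  let c : G → ℕ := fun y => (Finset.univ.filter fun w : R => Commute y (w : G)).card
  have hconj : ∀ r : R, ∃ v : R, s * (v : G) = r * s * (r : G)⁻¹ := fun r =>
    ⟨⟨s⁻¹ * r * s * (r : G)⁻¹, mul_mem (hsR r r.2) (inv_mem r.2)⟩, by group⟩
  choose cv hcv using hconj
  set Y : Finset R := Finset.univ.filter fun v : R => ¬ p ∣ orderOf (s * (v : G)) with hY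
  have hcvY : ∀ r, cv r ∈ Y := fun r => by
    rw [hY, Finset.mem_filter, hcv]
    exact ⟨Finset.mem_univ _, fun h => hs ((MulAut.conj (r : G)).orderOf_eq s ▸ h)⟩
  have htot : ∑ v ∈ Y, c (s * v) = Fintype.card R := by
    rw [← Finset.card_univ]
    rw [← Finset.card_sigma]
    refine Finset.card_bij (fun a _ => a.1 * a.2) (fun a _ => Finset.mem_univ _) ?_ ?_
    · rintro ⟨v, w⟩ hvw ⟨v', w'⟩ hvw' e
      simp only [hY, c, Finset.mem_sigma, Finset.mem_filter, Finset.mem_univ, true_and] at hvw hvw'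
      have key : ∀ (v w : R), ¬ p ∣ orderOf (s * (v : G)) → Commute (s * (v : G)) (w : G) →
          (s * ((v * w : R) : G)) ^ k = s * v := fun v w h1 h2 => by
        rw [Subgroup.coe_mul, ← mul_assoc, h2.mul_pow, hreg _ h1, hpel _ (hRel w), mul_one]
      have h1 := key v w hvw.1 hvw.2
      simp only at e
      rw [e, key v' w' hvw'.1 hvw'.2, mul_left_cancel_iff] at h1
      obtain rfl : v' = v := Subtype.ext h1
      obtain rfl : w = w' := mul_left_cancel e
      rfl
    · intro x _
      obtain ⟨y, hy, hyk⟩ := pow_mem_coset hsR k x.2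
      rw [hreg s hs] at hyk
      refine ⟨⟨⟨y, hy⟩, (⟨y, hy⟩ : R)⁻¹ * x⟩, ?_, by simp⟩
      simp only [hY, c, Finset.mem_sigma, Finset.mem_filter, Finset.mem_univ, true_and]
      refine ⟨by rw [← hyk]; exact hkreg _, ?_⟩
      rw [Subgroup.coe_mul, InvMemClass.coe_inv,
        show y⁻¹ * (x : G) = (s * y)⁻¹ * (s * x) by group, ← hyk]
      exact ((Commute.refl _).inv_right).mul_right (Commute.pow_left (Commute.refl _) k)
  have hcs : ∀ r : R, c (s * cv r) = c s := fun r => by
    refine Finset.card_equiv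
      { toFun := fun w : R => r⁻¹ * w * r
        invFun := fun w => r * w * r⁻¹
        left_inv := fun w => by group
        right_inv := fun w => by group } fun w => ?_
    simp only [Finset.mem_filter, Finset.mem_univ, true_and, Equiv.coe_fn_mk, hcv]
    simp only [Subgroup.coe_mul, InvMemClass.coe_inv, commute_iff_eq]
    constructor <;> intro h
    · calc s * ((r : G)⁻¹ * w * r) = (r : G)⁻¹ * ((r * s * (r : G)⁻¹) * w) * r := by group
        _ = (r : G)⁻¹ * (w * (r * s * (r : G)⁻¹)) * r := by rw [h]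
        _ = _ := by group
    · calc r * s * (r : G)⁻¹ * w = r * (s * ((r : G)⁻¹ * w * r)) * (r : G)⁻¹ := by group
        _ = r * (((r : G)⁻¹ * w * r) * s) * (r : G)⁻¹ := by rw [h]
        _ = _ := by group
  set I := Finset.univ.image cv with hI
  have hIY : I ⊆ Y := fun v hv => by
    obtain ⟨r, -, rfl⟩ := Finset.mem_image.1 hv
    exact hcvY r
  have hfib : I.card * c s = Fintype.card R := by
    rw [← Finset.card_univ, Finset.card_eq_sum_card_image cv Finset.univ]
    rw [← hI, ← smul_eq_mul, ← Finset.sum_const]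
    refine Finset.sum_congr rfl fun v hv => ?_
    obtain ⟨r, -, rfl⟩ := Finset.mem_image.1 hv
    refine Finset.card_equiv (Equiv.mulLeft r) fun w => ?_
    simp only [Finset.mem_filter, Finset.mem_univ, true_and, Equiv.coe_mulLeft, commute_iff_eq]
    rw [← Subtype.coe_inj,
      show ((cv (r * w) : G) = cv r) ↔ s * (cv (r * w) : G) = s * cv r from mul_left_cancel_iff.symm,
      hcv, hcv, Subgroup.coe_mul]
    constructor <;> intro h
    · calc (r : G) * w * s * ((r : G) * w)⁻¹ = r * (w * s) * (w : G)⁻¹ * (r : G)⁻¹ := by group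
        _ = r * (s * w) * (w : G)⁻¹ * (r : G)⁻¹ := by rw [h]
        _ = _ := by group
    · calc s * (w : G) = (r : G)⁻¹ * ((r : G) * s * (r : G)⁻¹) * r * w := by group
        _ = (r : G)⁻¹ * ((r : G) * w * s * ((r : G) * w)⁻¹) * r * w := by rw [h]
        _ = _ := by group
  have hI' : Y = I := by
    refine (Finset.Subset.antisymm hIY fun v hv => ?_).symm
    by_contra hvI
    have h1 := Finset.sum_sdiff (f := fun v : R => c (s * v)) hIY
    rw [htot, Finset.sum_congr rfl (s₁ := I) (g := fun _ => c s) (fun v hv => by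
      obtain ⟨r, -, rfl⟩ := Finset.mem_image.1 hv
      exact hcs r), Finset.sum_const, smul_eq_mul, hfib] at h1
    have h2 : 0 < c (s * v) := Finset.card_pos.2
      ⟨1, by simp only [Finset.mem_filter, Finset.mem_univ, true_and]; exact Commute.one_right _⟩
    have h3 := Finset.single_le_sum (f := fun v : R => c (s * v)) (fun _ _ => Nat.zero_le _)
      (Finset.mem_sdiff.2 ⟨hv, hvI⟩)
    omega
  have hsum : ∑ v : R, f (s * v) = (I.card : ℂ) * f s := by
    rw [← Finset.sum_subset (Finset.subset_univ I) fun v _ hv => hf0 _ (by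
      by_contra h
      exact hv (hI' ▸ Finset.mem_filter.2 ⟨Finset.mem_univ _, h⟩))]
    rw [← nsmul_eq_mul, ← Finset.sum_const]
    refine Finset.sum_congr rfl fun v hv => ?_
    obtain ⟨r, -, rfl⟩ := Finset.mem_image.1 hv
    rw [hcv]; exact hf s r
  rw [hsum, ← mul_assoc, ← Nat.cast_mul, Nat.card_eq_fintype_card, Nat.card_eq_fintype_card,
    Fintype.card_subtype, mul_comm (Finset.card _), hfib]

variable {P : Cfsg.BNPair G} {U : Subgroup G}

theorem phi_mul_rad (S : Split P U p) {J : Finset G} (hJ : (J : Set G) ⊆ P.S)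
    (hR : RadNormal P U (J : Set G)) {n : G} (hn : n ∈ Subgroup.closure (J : Set G))
    (htop : Top P (J : Set G) n) {v : G} (hv : v ∈ rad P U n) (g : G) :
    phi P J (g * v) = phi P J g := by
  refine Finset.sum_congr rfl fun K _ => ?_
  congr 2
  refine Nat.card_congr (Equiv.setCongr ?_)
  ext c
  simp only [FixK, Set.mem_setOf_eq]
  refine and_congr_left fun hc => ?_
  obtain ⟨q, hq, rfl⟩ := hc
  have h1 : v • (q : G ⧸ P.parabolic (K : Set G)) = q := by
    rw [MulAction.Quotient.smul_mk, QuotientGroup.eq, smul_eq_mul, ← Subgroup.inv_mem_iff]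
    have := fix_all S hJ hR hn htop hv hq
    simpa [mul_assoc] using (B_le_parabolic (P := P) (K : Set G) this)
  rw [mul_smul, h1]

theorem rad_le_parabolic (S : Split P U p) (J : Set G) (n : G) : rad P U n ≤ P.parabolic J :=
  fun _ hv => B_le_parabolic J (S.le (mem_rad.1 hv).1)

theorem isPGroup_rad (S : Split P U p) (n : G) : IsPGroup p (rad P U n) := S.isPGroup.to_le inf_le_left

/-- The alternating sum on a parabolic subgroup averages the Steinberg character over the radical. -/
theorem sum_st_rad (S : Split P U p) (ho : Opp P U) {J : Finset G} (hJ : (J : Set G) ⊆ P.S)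
    (hR : RadNormal P U (J : Set G)) {n : G} (hn : n ∈ Subgroup.closure (J : Set G))
    (htop : Top P (J : Set G) n) [Fintype (rad P U n)] {g : G}
    (hg : g ∈ P.parabolic (J : Set G)) :
    ∑ v : rad P U n, st P (g * v) = (Nat.card (rad P U n) : ℂ) * (phi P J g : ℂ) := by
  classical
  haveI := Fintype.ofFinite ↥(P.parabolic (J : Set G))
  have hle := rad_le_parabolic S (J : Set G) n
  set Q := P.parabolic (J : Set G)
  set R := (rad P U n).subgroupOf Q with hRdef
  haveI := Fintype.ofFinite R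
  let D : ↥Q → ℂ := fun x => st P (x : G)
  have hD : Cfsg.IsCharacter ↥Q D := IsCharacter.restrict (isCharacter_of_irr (isIrr_st S ho)) Q
  have hphi := isIrr_phiC S hJ hR
  have hD' : Cfsg.IsCharacter ↥Q (D - phiC P J) := by
    refine isCharacter_of_coeff ?_ fun η => ?_
    · intro a b
      simp only [Pi.sub_apply]
      rw [isClassFunction_isChar hD a b, isClassFunction_isChar (isCharacter_of_irr hphi) a b]
    · rw [classInner_sub_left]
      obtain ⟨m, hm⟩ := classInner_char_nat hD (isCharacter_of_irr η.2)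
      by_cases he : η = ⟨phiC P J, hphi⟩
      · subst he
        refine ⟨0, ?_⟩
        show Cfsg.classInner D (phiC P J) - Cfsg.classInner (phiC P J) (phiC P J) = _
        rw [show Cfsg.classInner D (phiC P J) = 1 from classInner_st_phi S ho hJ,
          classInner_self_irr hphi, sub_self, Nat.cast_zero]
      · refine ⟨m, ?_⟩
        rw [hm, show Cfsg.classInner (phiC P J) (η : ↥Q → ℂ) = 0 from
          classInner_irr_ne (χ := ⟨phiC P J, hphi⟩) (Ne.symm he), sub_zero]
  have hsumR : ∀ f : G → ℂ, ∑ v : R, f ((v : ↥Q) : G) = ∑ v : rad P U n, f v := fun f =>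
    Fintype.sum_equiv (Subgroup.subgroupOfEquivOfLe hle).toEquiv _ _ fun x => rfl
  have hphiR : ∀ (x : G), ∑ v : rad P U n, (phi P J (x * v) : ℂ) =
      (Nat.card (rad P U n) : ℂ) * (phi P J x : ℂ) := fun x => by
    rw [Finset.sum_congr rfl fun v _ => by rw [phi_mul_rad S hJ hR hn htop v.2 x], Finset.sum_const,
      Finset.card_univ, nsmul_eq_mul, Nat.card_eq_fintype_card]
  have h0 : ∑ v : R, (D - phiC P J) (v : ↥Q) = 0 := by
    simp only [Pi.sub_apply, Finset.sum_sub_distrib, D, phiC]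
    rw [hsumR (st P), hsumR (fun x => (phi P J x : ℂ)),
      Finset.sum_eq_single (1 : rad P U n) (fun v _ hv => st_U S ho (mem_rad.1 v.2).1
        fun h => hv (Subtype.ext h)) (fun h => absurd (Finset.mem_univ _) h),
      Subgroup.coe_one, st_one S ho]
    have h1 := hphiR 1
    simp only [one_mul] at h1
    rw [h1, phi_one_eq S hJ hR hn htop, ← card_topPts S hJ hn htop]
    push_cast; ring
  have h := sum_coset_eq_zero hD' R h0 ⟨g, hg⟩
  simp only [Pi.sub_apply, Finset.sum_sub_distrib, D, phiC, Subgroup.coe_mul] at h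
  rw [hsumR (fun v => st P (g * v)), hsumR (fun v => (phi P J (g * v) : ℂ)), hphiR g, sub_eq_zero] at h
  exact h

/-- The `p`-elements of a parabolic subgroup centralising `s`. -/
def UC (P : Cfsg.BNPair G) (p : ℕ) (J : Set G) (s : G) : Set G :=
  {u | u ∈ Uni P p J ∧ Commute s u}

theorem st_conj (S : Split P U p) (ho : Opp P U) (q s : G) : st P (q⁻¹ * s * q) = st P s := by
  have := isClassFunction_isChar (isCharacter_of_irr (isIrr_st S ho)) s q⁻¹
  rwa [inv_inv] at this

/-- The Steinberg character at a regular element of a parabolic subgroup. -/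
theorem card_rad_cent_mul_phi (S : Split P U p) (ho : Opp P U) {J : Finset G}
    (hJ : (J : Set G) ⊆ P.S) (hR : RadNormal P U (J : Set G)) {n : G}
    (hn : n ∈ Subgroup.closure (J : Set G)) (htop : Top P (J : Set G) n) {s : G}
    (hs : s ∈ P.parabolic (J : Set G)) (hsp : ¬ p ∣ orderOf s) :
    (Nat.card {v : rad P U n // Commute s (v : G)} : ℂ) * (phi P J s : ℂ) = st P s := by
  haveI := Fintype.ofFinite (rad P U n)
  have h1 := sum_coset_regular S.prime (isClassFunction_isChar (isCharacter_of_irr (isIrr_st S ho)))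
    (fun x hx => st_eq_zero S ho hx) (isPGroup_rad S n)
    (fun v hv => rad_conj S hJ hR hn htop hv hs) hsp
  rw [sum_st_rad S ho hJ hR hn htop hs, mul_left_comm] at h1
  exact mul_left_cancel₀ (Nat.cast_ne_zero.2 Nat.card_pos.ne') h1

theorem sum_phi_cent (S : Split P U p) (ho : Opp P U) {J : Finset G} (hJ : (J : Set G) ⊆ P.S)
    (hR : RadNormal P U (J : Set G)) {s : G} (hs : s ∈ P.parabolic (J : Set G))
    (hsp : ¬ p ∣ orderOf s) [Fintype ↥(UC P p (J : Set G) s)] :
    ∑ u : ↥(UC P p (J : Set G) s), (phi P J (s * u) : ℂ) = st P s := by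
  classical
  obtain ⟨n, hn, htop⟩ := exists_top (P := P) hJ
  haveI := Fintype.ofFinite (rad P U n)
  obtain ⟨k, hreg, hpel, hkreg⟩ := exists_regular_exp (G := G) S.prime
  have hz : ∀ u : ↥(UC P p (J : Set G) s), (u : G) ∉ rad P U n → (phi P J (s * u) : ℂ) = 0 := by
    rintro ⟨u, ⟨huP, hup⟩, hsu⟩ hur
    have h1 := sum_st_rad S ho hJ hR hn htop (mul_mem hs huP)
    rw [Finset.sum_eq_zero, eq_comm, mul_eq_zero] at h1
    · exact h1.resolve_left (Nat.cast_ne_zero.2 Nat.card_pos.ne')
    intro v _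
    refine st_eq_zero S ho ?_
    by_contra hx
    refine hur ?_
    obtain ⟨w, hw, e⟩ := pow_mem_coset (fun v hv => rad_conj S hJ hR hn htop hv (mul_mem hs huP)) k v.2
    rw [hreg _ hx, hsu.mul_pow, hreg s hsp, hpel u hup, mul_one, mul_assoc, mul_left_cancel_iff] at e
    show u ∈ rad P U n
    rw [show u = u * v * (v : G)⁻¹ by group, e]
    exact mul_mem hw (inv_mem v.2)
  rw [← Finset.sum_filter_add_sum_filter_not Finset.univ
      (fun u : ↥(UC P p (J : Set G) s) => (u : G) ∈ rad P U n),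
    Finset.sum_eq_zero (s := Finset.univ.filter fun u : ↥(UC P p (J : Set G) s) => ¬ (u : G) ∈ rad P U n)
      (fun u hu => hz u (Finset.mem_filter.1 hu).2), add_zero]
  rw [Finset.sum_congr rfl fun u hu => by
    rw [phi_mul_rad S hJ hR hn htop (Finset.mem_filter.1 hu).2 s], Finset.sum_const, nsmul_eq_mul,
    ← card_rad_cent_mul_phi S ho hJ hR hn htop hs hsp]
  congr 2
  rw [← Fintype.card_subtype, ← Nat.card_eq_fintype_card]
  exact Nat.card_congr
    { toFun := fun u => ⟨⟨u.1.1, u.2⟩, u.1.2.2⟩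
      invFun := fun v => ⟨⟨v.1.1, ⟨⟨rad_le_parabolic S _ n v.1.2,
        exists_pow_of_mem S (mem_rad.1 v.1.2).1⟩, v.2⟩⟩, v.1.2⟩ }

theorem out_mem {J K : Set G} (hKJ : K ⊆ J) {s : G} (c : ↥(FixK P J K s)) :
    c.1.out ∈ P.parabolic J := by
  obtain ⟨c, -, q, hq, rfl⟩ := c
  obtain ⟨h, hh⟩ := QuotientGroup.mk_out_eq_mul (P.parabolic K) q
  rw [hh]
  exact mul_mem hq (parabolic_mono hKJ h.2)

theorem smul_out {J K : Set G} {s : G} (c : ↥(FixK P J K s)) :
    c.1.out⁻¹ * s * c.1.out ∈ P.parabolic K := by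
  have h := c.2.1
  rw [← QuotientGroup.out_eq' c.1, MulAction.Quotient.smul_mk, QuotientGroup.eq, smul_eq_mul,
    ← Subgroup.inv_mem_iff] at h
  simpa [mul_assoc] using h

theorem card_fix_comp {J K L : Set G} (hKJ : K ⊆ J) (hLK : L ⊆ K) (s : G)
    [Fintype ↥(FixK P J K s)] :
    ∑ c : ↥(FixK P J K s), Nat.card ↥(FixK P K L (c.1.out⁻¹ * s * c.1.out)) =
      Nat.card ↥(FixK P J L s) := by
  rw [← Nat.card_sigma]
  refine Nat.card_eq_of_bijective (fun a => ⟨a.1.1.out • a.2.1, ?_, ?_⟩) ⟨?_, ?_⟩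
  · rw [← mul_smul, show s * a.1.1.out = a.1.1.out * (a.1.1.out⁻¹ * s * a.1.1.out) by group,
      mul_smul, a.2.2.1]
  · obtain ⟨r, hr, e⟩ := a.2.2.2
    exact ⟨a.1.1.out * r, mul_mem (out_mem hKJ a.1) (parabolic_mono hKJ hr), by
      rw [← e, MulAction.Quotient.smul_mk]; rfl⟩
  · rintro ⟨c, d⟩ ⟨c', d'⟩ e
    have e' : c.1.out • d.1 = c'.1.out • d'.1 := congrArg Subtype.val e
    obtain ⟨r, hr, hd⟩ := d.2.2
    obtain ⟨r', hr', hd'⟩ := d'.2.2
    have e'' := e'
    rw [← hd, ← hd', MulAction.Quotient.smul_mk, MulAction.Quotient.smul_mk, QuotientGroup.eq] at e''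
    obtain rfl : c = c' := by
      refine Subtype.ext ?_
      rw [← QuotientGroup.out_eq' c.1, ← QuotientGroup.out_eq' c'.1, QuotientGroup.eq]
      have := mul_mem (mul_mem hr (parabolic_mono hLK e'')) (inv_mem hr')
      simpa [mul_assoc] using this
    rw [smul_left_cancel_iff] at e'
    obtain rfl : d = d' := Subtype.ext e'
    rfl
  · rintro ⟨x, hx, q, hq, rfl⟩
    have hqK : s • (q : G ⧸ P.parabolic K) = q := by
      rw [MulAction.Quotient.smul_mk, QuotientGroup.eq]
      rw [MulAction.Quotient.smul_mk, QuotientGroup.eq] at hx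
      exact parabolic_mono hLK hx
    let c : ↥(FixK P J K s) := ⟨(q : G ⧸ P.parabolic K), hqK, q, hq, rfl⟩
    have hr : c.1.out⁻¹ * q ∈ P.parabolic K := QuotientGroup.eq.1 (QuotientGroup.out_eq' c.1)
    refine ⟨⟨c, ⟨((c.1.out⁻¹ * q : G) : G ⧸ P.parabolic L), ?_, _, hr, rfl⟩⟩, Subtype.ext ?_⟩
    · rw [show ((c.1.out⁻¹ * q : G) : G ⧸ P.parabolic L) = c.1.out⁻¹ • (q : G ⧸ P.parabolic L) from rfl,
        ← mul_smul, show c.1.out⁻¹ * s * c.1.out * c.1.out⁻¹ = c.1.out⁻¹ * s by group, mul_smul, hx]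
    · show c.1.out • c.1.out⁻¹ • (q : G ⧸ P.parabolic L) = _
      rw [smul_inv_smul]

theorem alt_fix {J : Finset G} {s : G} (hs : s ∈ P.parabolic (J : Set G))
    (F : (K : Finset G) → Fintype ↥(FixK P (J : Set G) (K : Set G) s)) :
    ∑ K ∈ J.powerset, (-1 : ℤ) ^ K.card *
      (letI := F K; ∑ c : ↥(FixK P (J : Set G) (K : Set G) s), phi P K (c.1.out⁻¹ * s * c.1.out)) = 1 := by
  classical
  have h1 : ∀ K ∈ J.powerset, (letI := F K;
      ∑ c : ↥(FixK P (J : Set G) (K : Set G) s), phi P K (c.1.out⁻¹ * s * c.1.out)) =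
      ∑ L ∈ K.powerset, (-1 : ℤ) ^ L.card * Nat.card ↥(FixK P (J : Set G) (L : Set G) s) := by
    intro K hK
    letI := F K
    simp only [phi]
    rw [Finset.sum_comm]
    refine Finset.sum_congr rfl fun L hL => ?_
    rw [← Finset.mul_sum, ← Nat.cast_sum,
      card_fix_comp (Finset.coe_subset.2 (Finset.mem_powerset.1 hK))
        (Finset.coe_subset.2 (Finset.mem_powerset.1 hL)) s]
  rw [Finset.sum_congr rfl fun K hK => by rw [h1 K hK]]
  simp only [Finset.mul_sum]
  rw [Finset.sum_comm' (t' := J.powerset) (s' := fun L => J.powerset.filter fun K => L ⊆ K) (fun K L => by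
    simp only [Finset.mem_powerset, Finset.mem_filter]
    exact ⟨fun h => ⟨⟨h.1, h.2⟩, h.2.trans h.1⟩, fun h => ⟨h.1.1, h.1.2⟩⟩)]
  rw [Finset.sum_eq_single J]
  · rw [show J.powerset.filter (fun K => J ⊆ K) = {J} from Finset.ext fun K => by
      simp only [Finset.mem_filter, Finset.mem_powerset, Finset.mem_singleton]
      exact ⟨fun h => Finset.Subset.antisymm h.1 h.2, fun h => h ▸ ⟨subset_rfl, subset_rfl⟩⟩,
      Finset.sum_singleton, ← mul_assoc, ← pow_add, Even.neg_one_pow ⟨_, rfl⟩, one_mul,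
      Nat.cast_eq_one, Nat.card_eq_one_iff_unique]
    refine ⟨⟨?_⟩, ⟨⟨((1 : G) : G ⧸ P.parabolic (J : Set G)), ?_, 1, one_mem _, rfl⟩⟩⟩
    · rintro ⟨c, -, q, hq, rfl⟩ ⟨c', -, q', hq', rfl⟩
      exact Subtype.ext (QuotientGroup.eq.2 (mul_mem (inv_mem hq) hq'))
    · rw [MulAction.Quotient.smul_mk, QuotientGroup.eq]
      simpa using inv_mem hs
  · intro L hL hne
    rw [← Finset.sum_mul]
    refine mul_eq_zero_of_left ?_ _
    obtain ⟨a, haJ, haL⟩ := Finset.exists_of_ssubset
      (Finset.ssubset_iff_subset_ne.2 ⟨Finset.mem_powerset.1 hL, hne⟩)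
    -- pairing by the element outside `L`
    refine Finset.sum_involution (fun K _ => if a ∈ K then K.erase a else insert a K) ?_ ?_ ?_ ?_
    · intro K hK
      by_cases h : a ∈ K
      · rw [if_pos h, ← Finset.card_erase_add_one h]; ring
      · rw [if_neg h, Finset.card_insert_of_notMem h]; ring
    · intro K hK _
      by_cases h : a ∈ K
      · rw [if_pos h]; exact (Finset.erase_ssubset h).ne
      · rw [if_neg h]; exact (Finset.ssubset_insert h).ne'
    · intro K hK
      simp only [Finset.mem_filter, Finset.mem_powerset] at hK ⊢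
      by_cases h : a ∈ K
      · rw [if_pos h]
        exact ⟨(Finset.erase_subset _ _).trans hK.1,
          fun x hx => Finset.mem_erase.2 ⟨fun e => haL (e ▸ hx), hK.2 hx⟩⟩
      · rw [if_neg h]
        exact ⟨Finset.insert_subset haJ hK.1, hK.2.trans (Finset.subset_insert _ _)⟩
    · intro K hK
      by_cases h : a ∈ K
      · simp [h]
      · simp [h]
  · intro h; exact absurd (Finset.mem_powerset_self J) h

/-- **Steinberg's formula**: the centralising `p`-elements of a parabolic subgroup. -/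
theorem card_UC (S : Split P U p) (ho : Opp P U) :
    ∀ {J : Finset G}, (J : Set G) ⊆ P.S → (∀ K : Finset G, K ⊆ J → RadNormal P U (K : Set G)) →
    ∀ {s : G}, s ∈ P.parabolic (J : Set G) → ¬ p ∣ orderOf s →
    (Nat.card ↥(UC P p (J : Set G) s) : ℂ) = st P s * (phi P J s : ℂ) := by
  intro J
  induction J using Finset.strongInduction with
  | _ J ih =>
    intro hJ hR s hs hsp
    classical
    haveI := Fintype.ofFinite ↥(UC P p (J : Set G) s)
    let F : (K : Finset G) → Fintype ↥(FixK P (J : Set G) (K : Set G) s) := fun K => Fintype.ofFinite _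
    obtain ⟨k, hreg, hpel, hkreg⟩ := exists_regular_exp (G := G) S.prime
    have hswap : ∀ K ∈ J.powerset,
        ∑ u : ↥(UC P p (J : Set G) s), Nat.card ↥(FixK P (J : Set G) (K : Set G) (s * u)) =
        ∑ c : ↥(FixK P (J : Set G) (K : Set G) s),
          Nat.card ↥(UC P p (K : Set G) (c.1.out⁻¹ * s * c.1.out)) := by
      intro K hK
      have hKJ := Finset.coe_subset.2 (Finset.mem_powerset.1 hK)
      rw [← Nat.card_sigma, ← Nat.card_sigma]
      have hboth : ∀ (u : ↥(UC P p (J : Set G) s)) (c : G ⧸ P.parabolic (K : Set G)),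
          (s * (u : G)) • c = c → s • c = c ∧ (u : G) • c = c := by
        intro u c h
        have h1 : (s * (u : G)) ^ k = s := by
          rw [u.2.2.mul_pow, hreg s hsp, hpel _ u.2.1.2, mul_one]
        have h2 : s • c = c := by
          rw [← h1]
          exact MulAction.mem_stabilizer_iff.1 (pow_mem (MulAction.mem_stabilizer_iff.2 h) k)
        refine ⟨h2, ?_⟩
        rw [show s * (u : G) = u * s from u.2.2.eq, mul_smul, h2] at h
        exact h
      refine Nat.card_eq_of_bijective (fun a =>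
        ⟨⟨a.2.1, (hboth a.1 a.2.1 a.2.2.1).1, a.2.2.2⟩,
          ⟨a.2.1.out⁻¹ * (a.1 : G) * a.2.1.out, ⟨?_, ?_⟩, ?_⟩⟩) ⟨?_, ?_⟩
      · exact smul_out (J := (J : Set G)) ⟨a.2.1, (hboth a.1 a.2.1 a.2.2.1).2, a.2.2.2⟩
      · obtain ⟨e, he⟩ := a.1.2.1.2
        exact ⟨e, by rw [orderOf_conj']; exact he⟩
      · show a.2.1.out⁻¹ * s * a.2.1.out * _ = _
        calc a.2.1.out⁻¹ * s * a.2.1.out * (a.2.1.out⁻¹ * (a.1 : G) * a.2.1.out)
            = a.2.1.out⁻¹ * (s * (a.1 : G)) * a.2.1.out := by group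
          _ = a.2.1.out⁻¹ * ((a.1 : G) * s) * a.2.1.out :=
              congrArg (fun z => a.2.1.out⁻¹ * z * a.2.1.out) a.1.2.2.eq
          _ = _ := by group
      · rintro ⟨u, c⟩ ⟨u', c'⟩ e
        simp only [Sigma.mk.inj_iff, Subtype.mk.injEq] at e
        obtain ⟨hc', hu⟩ := e
        have hc : c.1 = c'.1 := congrArg Subtype.val hc'
        obtain rfl : u = u' := by
          have h3 : ∀ {x y : G ⧸ P.parabolic (K : Set G)} (_ : x = y) {a b : G}
              (ha : a ∈ UC P p (K : Set G) (x.out⁻¹ * s * x.out))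
              (hb : b ∈ UC P p (K : Set G) (y.out⁻¹ * s * y.out)),
              HEq (⟨a, ha⟩ : ↥(UC P p (K : Set G) (x.out⁻¹ * s * x.out)))
                (⟨b, hb⟩ : ↥(UC P p (K : Set G) (y.out⁻¹ * s * y.out))) → a = b := by
            rintro x y rfl a b ha hb h
            exact congrArg Subtype.val (eq_of_heq h)
          have h4 := h3 hc _ _ hu
          rw [hc, mul_left_inj, mul_right_inj] at h4
          exact Subtype.ext h4
        obtain rfl : c = c' := Subtype.ext hc
        rfl
      · rintro ⟨c, w⟩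
        have hwc : (c.1.out * (w : G) * c.1.out⁻¹) • c.1 = c.1 := by
          conv_lhs => arg 2; rw [← QuotientGroup.out_eq' c.1]
          conv_rhs => rw [← QuotientGroup.out_eq' c.1]
          rw [MulAction.Quotient.smul_mk, QuotientGroup.eq, smul_eq_mul]
          simpa [mul_assoc] using inv_mem w.2.1.1
        refine ⟨⟨⟨c.1.out * (w : G) * c.1.out⁻¹, ⟨?_, ?_⟩, ?_⟩, ⟨c.1, ?_, c.2.2⟩⟩, ?_⟩
        · exact mul_mem (mul_mem (out_mem hKJ c) (parabolic_mono hKJ w.2.1.1)) (inv_mem (out_mem hKJ c))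
        · obtain ⟨e, he⟩ := w.2.1.2
          refine ⟨e, ?_⟩
          have := orderOf_conj' c.1.out⁻¹ (w : G)
          rw [inv_inv] at this
          rw [this, he]
        · show s * _ = _ * s
          calc s * (c.1.out * (w : G) * c.1.out⁻¹)
              = c.1.out * ((c.1.out⁻¹ * s * c.1.out) * (w : G)) * c.1.out⁻¹ := by group
            _ = c.1.out * ((w : G) * (c.1.out⁻¹ * s * c.1.out)) * c.1.out⁻¹ := by rw [w.2.2.eq]
            _ = _ := by group
        · rw [mul_smul, hwc, c.2.1]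
        · obtain ⟨c, hc⟩ := c
          obtain ⟨w, hw⟩ := w
          simp [mul_assoc]
    have h1 := sum_phi_cent S ho hJ (hR J subset_rfl) hs hsp
    simp only [phi] at h1
    push_cast at h1
    rw [Finset.sum_comm] at h1
    simp only [← Finset.mul_sum, ← Nat.cast_sum] at h1
    rw [Finset.sum_congr rfl fun K hK => by rw [hswap K hK]] at h1
    have h2 := congrArg (fun z : ℤ => st P s * (z : ℂ)) (alt_fix hs F)
    simp only [Int.cast_one, mul_one, Int.cast_sum, Int.cast_mul, Int.cast_pow, Int.cast_neg,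
      Finset.mul_sum] at h2
    have hJm : J ∈ J.powerset := Finset.mem_powerset_self J
    rw [← Finset.add_sum_erase _ _ hJm] at h1 h2
    have e : ∀ K ∈ J.powerset.erase J,
        (-1 : ℂ) ^ K.card * ((∑ c : ↥(FixK P (J : Set G) (K : Set G) s),
          Nat.card ↥(UC P p (K : Set G) (c.1.out⁻¹ * s * c.1.out)) : ℕ) : ℂ) =
        ∑ c : ↥(FixK P (J : Set G) (K : Set G) s),
          st P s * ((-1 : ℂ) ^ K.card * (phi P K (c.1.out⁻¹ * s * c.1.out) : ℂ)) := by
      intro K hK
      obtain ⟨hne, hK'⟩ := Finset.mem_erase.1 hK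
      rw [Finset.mem_powerset] at hK'
      rw [Nat.cast_sum, Finset.mul_sum]
      refine Finset.sum_congr rfl fun c _ => ?_
      rw [ih K (Finset.ssubset_iff_subset_ne.2 ⟨hK', hne⟩) ((Finset.coe_subset.2 hK').trans hJ)
        (fun L hL => hR L (hL.trans hK')) (smul_out c)
        (fun h => hsp (by rwa [orderOf_conj'] at h)), st_conj S ho]
      ring
    rw [Finset.sum_congr rfl e] at h1
    have huniq : ∀ c : ↥(FixK P (J : Set G) (J : Set G) s), c.1.out ∈ P.parabolic (J : Set G) :=
      fun c => out_mem subset_rfl c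
    have hq : ∀ c : ↥(FixK P (J : Set G) (J : Set G) s),
        phi P J (c.1.out⁻¹ * s * c.1.out) = phi P J s := fun c => by
      have := phi_conj (inv_mem (huniq c)) s
      rwa [inv_inv] at this
    have hcu : ∀ c : ↥(FixK P (J : Set G) (J : Set G) s),
        Nat.card ↥(UC P p (J : Set G) (c.1.out⁻¹ * s * c.1.out)) = Nat.card ↥(UC P p (J : Set G) s) := by
      intro c
      refine Nat.card_congr ((MulAut.conj c.1.out).toEquiv.subtypeEquiv fun u => ?_)
      show _ ↔ c.1.out * u * c.1.out⁻¹ ∈ UC P p (J : Set G) s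
      simp only [UC, Uni, Set.mem_setOf_eq]
      have ho' : orderOf (c.1.out * u * c.1.out⁻¹) = orderOf u := (MulAut.conj c.1.out).orderOf_eq u
      rw [ho']
      refine and_congr (and_congr_left' ⟨fun h => mul_mem (mul_mem (huniq c) h) (inv_mem (huniq c)),
        fun h => by
          have := mul_mem (mul_mem (inv_mem (huniq c)) h) (huniq c)
          simpa [mul_assoc] using this⟩) ?_
      simp only [commute_iff_eq]
      constructor <;> intro h
      · calc s * (c.1.out * u * c.1.out⁻¹)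
            = c.1.out * ((c.1.out⁻¹ * s * c.1.out) * u) * c.1.out⁻¹ := by group
          _ = c.1.out * (u * (c.1.out⁻¹ * s * c.1.out)) * c.1.out⁻¹ := by rw [h]
          _ = _ := by group
      · calc c.1.out⁻¹ * s * c.1.out * u = c.1.out⁻¹ * (s * (c.1.out * u * c.1.out⁻¹)) * c.1.out := by
              group
          _ = c.1.out⁻¹ * ((c.1.out * u * c.1.out⁻¹) * s) * c.1.out := by rw [h]
          _ = _ := by group
    have hone : Fintype.card ↥(FixK P (J : Set G) (J : Set G) s) = 1 := by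
      rw [Fintype.card_eq_one_iff]
      refine ⟨⟨((1 : G) : G ⧸ P.parabolic (J : Set G)), ?_, 1, one_mem _, rfl⟩, ?_⟩
      · rw [MulAction.Quotient.smul_mk, QuotientGroup.eq]; simpa using inv_mem hs
      · rintro ⟨c, -, q, hq', rfl⟩
        exact Subtype.ext (QuotientGroup.eq.2 (by simpa using inv_mem hq'))
    rw [Finset.sum_congr rfl (fun c _ => hcu c), Finset.sum_const, Finset.card_univ, hone, one_nsmul] at h1
    rw [Finset.sum_congr rfl (fun c _ => by rw [hq c]), Finset.sum_const, Finset.card_univ, hone,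
      one_nsmul] at h2
    have h3 : (-1 : ℂ) ^ J.card * (Nat.card ↥(UC P p (J : Set G) s) : ℂ) =
        (-1 : ℂ) ^ J.card * (st P s * (phi P J s : ℂ)) := by linear_combination h1 - h2
    exact mul_left_cancel₀ (pow_ne_zero _ (by norm_num)) h3

/-- The Borel–Tits property: `p`-subgroups and their normalisers sit in parabolic subgroups. -/
def BorelTits (P : Cfsg.BNPair G) (U : Subgroup G) (p : ℕ) : Prop :=
  ∀ R : Subgroup G, IsPGroup p R → ∃ (K : Finset G) (n q : G), (K : Set G) ⊆ P.S ∧
    n ∈ Subgroup.closure (K : Set G) ∧ Top P (K : Set G) n ∧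
    (∀ g ∈ Subgroup.normalizer (R : Set G), q⁻¹ * g * q ∈ P.parabolic (K : Set G)) ∧
    ∀ r ∈ R, q⁻¹ * r * q ∈ rad P U n

/-- The `p`-elements centralising a regular element number the square of the Steinberg character. -/
theorem card_cent_pelements (S : Split P U p) (ho : Opp P U)
    (hR : ∀ K : Finset G, (K : Set G) ⊆ P.S → RadNormal P U (K : Set G)) {s : G}
    (hsp : ¬ p ∣ orderOf s) :
    (Nat.card {u : G // (∃ k, orderOf u = p ^ k) ∧ Commute s u} : ℂ) = st P s ^ 2 := by
  have h := card_UC S ho coe_gens_subset (fun K hK => hR K ((Finset.coe_subset.2 hK).trans coe_gens_subset))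
    (mem_parabolic_gens s) hsp
  rw [sq]
  conv_rhs => arg 2; rw [st_eq_phi]
  rw [← h]
  congr 1
  exact Nat.card_congr
    { toFun := fun u => ⟨u.1, ⟨mem_parabolic_gens u.1, u.2.1⟩, u.2.2⟩
      invFun := fun u => ⟨u.1, u.2.1.2, u.2.2⟩ }

/-- A character of defect zero is divisible by the `p`-part of the centraliser at every element. -/
theorem isIntegral_div_cent (hp : p.Prime) {χ : G → ℂ} (hχ : Cfsg.IsIrrCharacter G χ)
    (hdeg : p ^ (Nat.card G).factorization p ∣ deg χ) (s : G) :
    IsIntegral ℤ (χ s /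
      (p : ℂ) ^ (Nat.card (Subgroup.centralizer ({s} : Set G))).factorization p) := by
  haveI := Fintype.ofFinite G
  have hχc := isCharacter_of_irr hχ
  set a := (Nat.card G).factorization p
  set C := Subgroup.centralizer ({s} : Set G)
  set c := (Nat.card C).factorization p
  obtain ⟨d, hd⟩ := Nat.ordProj_dvd (Nat.card C) p
  obtain ⟨m, hm⟩ := hdeg
  set b := Nat.card G / p ^ a with hb
  have hab : p ^ a * b = Nat.card G := Nat.ordProj_mul_ordCompl_eq_self _ _
  have hω := isIntegral_centralChar_irr hχ s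
  rw [card_isConj, IsCharacter.apply_one_eq_deg hχc, hm] at hω
  have hI : IsIntegral ℤ ((b : ℂ) * (χ s / (p : ℂ) ^ c)) := by
    have h1 : (C.index : ℂ) * ((p : ℂ) ^ c * d) = (p : ℂ) ^ a * b := by
      have := C.card_mul_index
      rw [← hab, hd, mul_comm] at this
      exact_mod_cast this
    have hm0 : (m : ℂ) ≠ 0 := Nat.cast_ne_zero.2 fun h0 => by
      have := deg_irr_pos ⟨χ, hχ⟩
      rw [show deg χ = 0 by rw [hm, h0, mul_zero]] at this
      exact lt_irrefl 0 this
    have key : (b : ℂ) * (χ s / (p : ℂ) ^ c) =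
        ((m * d : ℕ) : ℂ) * ((C.index : ℂ) * χ s / ((p ^ a * m : ℕ) : ℂ)) := by
      have hp0 : (p : ℂ) ≠ 0 := Nat.cast_ne_zero.2 hp.ne_zero
      push_cast
      field_simp
      linear_combination -(χ s) * h1
    rw [key]
    exact IsIntegral.mul (natCast_mem (integralClosure ℤ ℂ) _) hω
  have hco : Nat.Coprime (p ^ c) b :=
    (Nat.coprime_ordCompl hp Nat.card_pos.ne').pow_left _
  obtain ⟨x, y, hxy⟩ : IsCoprime ((p ^ c : ℕ) : ℤ) (b : ℤ) := Nat.isCoprime_iff_coprime.2 hco
  have hp0 : ((p : ℂ) ^ c) ≠ 0 := pow_ne_zero _ (Nat.cast_ne_zero.2 hp.ne_zero)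
  have e2 : χ s / (p : ℂ) ^ c = (x : ℂ) * χ s + (y : ℂ) * ((b : ℂ) * (χ s / (p : ℂ) ^ c)) := by
    have : (x : ℂ) * (p : ℂ) ^ c + (y : ℂ) * b = 1 := by exact_mod_cast hxy
    field_simp
    linear_combination -(χ s) * this
  rw [e2]
  exact IsIntegral.add (IsIntegral.mul (intCast_mem (integralClosure ℤ ℂ) x)
    (IsCharacter.isIntegral hχc s)) (IsIntegral.mul (intCast_mem (integralClosure ℤ ℂ) y) hI)

/-- **The value at a semisimple element.** -/
theorem st_eq_pm (S : Split P U p) (ho : Opp P U)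
    (hR : ∀ K : Finset G, (K : Set G) ⊆ P.S → RadNormal P U (K : Set G))
    {s : G} (hsp : ¬ p ∣ orderOf s) :
    ∃ ε : ℤ, (ε = 1 ∨ ε = -1) ∧ st P s =
      (ε : ℂ) * ((p ^ (Nat.card (Subgroup.centralizer ({s} : Set G))).factorization p : ℕ) : ℂ) := by
  classical
  haveI := Fact.mk S.prime
  -- a smallest parabolic subgroup through which `s` passes
  let C : Set (Finset G × G) := {t | (t.1 : Set G) ⊆ P.S ∧ t.2⁻¹ * s * t.2 ∈ P.parabolic (t.1 : Set G)}
  have hC : C.Nonempty := ⟨(gens P, 1), coe_gens_subset, mem_parabolic_gens _⟩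
  obtain ⟨⟨K, q⟩, ⟨hK, hsK⟩, hmin⟩ := Set.exists_min_image C (fun t => t.1.card) (Set.toFinite _) hC
  set s' := q⁻¹ * s * q with hs'
  have hs'p : ¬ p ∣ orderOf s' := fun h => hsp (by rwa [hs', orderOf_conj'] at h)
  have hphi : phi P K s' = (-1) ^ K.card := by
    rw [phi, Finset.sum_eq_single K]
    · haveI : Subsingleton ↥(FixK P (K : Set G) (K : Set G) s') := ⟨by
        rintro ⟨c, -, r, hr, rfl⟩ ⟨c', -, r', hr', rfl⟩
        exact Subtype.ext (QuotientGroup.eq.2 (mul_mem (inv_mem hr) hr'))⟩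
      haveI : Nonempty ↥(FixK P (K : Set G) (K : Set G) s') :=
        ⟨⟨((1 : G) : G ⧸ P.parabolic (K : Set G)), by
          rw [MulAction.Quotient.smul_mk, QuotientGroup.eq]; simpa using inv_mem hsK, 1, one_mem _, rfl⟩⟩
      rw [Nat.card_unique, Nat.cast_one, mul_one]
    · intro L hL hne
      rw [Finset.mem_powerset] at hL
      haveI : IsEmpty ↥(FixK P (K : Set G) (L : Set G) s') := by
        refine ⟨?_⟩
        rintro ⟨c, hc, x, hx, rfl⟩
        rw [MulAction.Quotient.smul_mk, QuotientGroup.eq, smul_eq_mul, ← Subgroup.inv_mem_iff] at hc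
        have hmem : (L, q * x) ∈ C := ⟨(Finset.coe_subset.2 hL).trans hK, by
          show (q * x)⁻¹ * s * (q * x) ∈ _
          rw [show (q * x)⁻¹ * s * (q * x) = x⁻¹ * s' * x by rw [hs']; group]
          simpa [mul_assoc] using hc⟩
        exact absurd (hmin _ hmem)
          (not_le.2 (Finset.card_lt_card (Finset.ssubset_iff_subset_ne.2 ⟨hL, hne⟩)))
      rw [Nat.card_of_isEmpty, Nat.cast_zero, mul_zero]
    · exact fun h => absurd (Finset.mem_powerset_self K) h
  obtain ⟨n, hn, htop⟩ := exists_top (P := P) hK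
  have hB := card_rad_cent_mul_phi S ho hK (hR K hK) hn htop hsK hs'p
  rw [st_conj S ho q s, hphi] at hB
  -- the order found is a power of `p` dividing the centraliser order
  set W := rad P U n ⊓ Subgroup.centralizer ({s'} : Set G) with hW
  obtain ⟨d, hd⟩ := IsPGroup.iff_card.1 ((isPGroup_rad S n).to_le (inf_le_left : W ≤ _))
  have hcW : Nat.card {v : rad P U n // Commute s' (v : G)} = p ^ d := by
    rw [← hd]
    exact Nat.card_congr
      { toFun := fun v => ⟨v.1.1, v.1.2, Subgroup.mem_centralizer_singleton_iff.2 v.2.symm⟩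
        invFun := fun w => ⟨⟨w.1, w.2.1⟩, (Subgroup.mem_centralizer_singleton_iff.1 w.2.2).symm⟩ }
  have hcard : Nat.card (Subgroup.centralizer ({s'} : Set G)) =
      Nat.card (Subgroup.centralizer ({s} : Set G)) := by
    refine Nat.card_congr ((MulAut.conj q).toEquiv.subtypeEquiv fun u => ?_)
    show u ∈ Subgroup.centralizer ({s'} : Set G) ↔ q * u * q⁻¹ ∈ Subgroup.centralizer ({s} : Set G)
    simp only [Subgroup.mem_centralizer_singleton_iff]
    constructor <;> intro h
    · calc q * u * q⁻¹ * s = q * (u * s') * q⁻¹ := by rw [hs']; group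
        _ = q * (s' * u) * q⁻¹ := by rw [h]
        _ = _ := by rw [hs']; group
    · calc u * s' = q⁻¹ * (q * u * q⁻¹ * s) * q := by rw [hs']; group
        _ = q⁻¹ * (s * (q * u * q⁻¹)) * q := by rw [h]
        _ = _ := by rw [hs']; group
  set c := (Nat.card (Subgroup.centralizer ({s} : Set G))).factorization p with hc
  have hdc : d ≤ c := by
    rw [hc, ← hcard]
    refine (S.prime.pow_dvd_iff_le_factorization Nat.card_pos.ne').1 ?_
    rw [← hd]; exact Subgroup.card_dvd_of_le inf_le_right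
  -- integrality gives the converse divisibility
  rw [hcW] at hB
  have hcd : c ≤ d := by
    have hI := isIntegral_div_cent S.prime (isIrr_st S ho) (by rw [deg_st S ho, factorization_eq S]) s
    rw [← hc, ← hB] at hI
    refine (Nat.pow_dvd_pow_iff_le_right S.prime.one_lt).1
      (dvd_of_isIntegral_div (pow_ne_zero c S.prime.ne_zero) ?_)
    push_cast at hI ⊢
    rcases neg_one_pow_eq_or ℂ K.card with h | h <;> rw [h] at hI
    · rwa [mul_one] at hI
    · rw [mul_neg, mul_one, neg_div] at hI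
      simpa using hI.neg
  refine ⟨(-1) ^ K.card, neg_one_pow_eq_or ℤ K.card, ?_⟩
  rw [← hB, le_antisymm hdc hcd, mul_comm]

end Cfsg.Lib.Steinberg
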